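import Cfsg.Agent.OddHalf.D6.QThree.TS.Hyp
import Cfsg.Agent.OddHalf.D6.QThree.NIB.Alpha
import Cfsg.Agent.StrongEmb.Strong
import Cfsg.Agent.OddHalf.D6.QThree.NISide
import Cfsg.Agent.OddHalf.D6.QThree.NI
import Cfsg.Agent.TwoFusion.FStarControl

-- merged: Cfsg.Agent.OddHalf.D6.QThree.TS.Comp
section

/-!
# ODD half, D6, `K = L₄(3)`, `T = S` (helper296, bb #16577): (A), the components of `X = C_G(z)`

`BaseT.alpha`: a component `M` containing neither `Q₁` nor `Q₂` satisfies `C_M(t) ≤ B` (after helper135's `NIB/Alpha`).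
-/

set_option autoImplicit false

namespace Cfsg.Agent.OddHalf.D6.QThree.TS

open Subgroup Cfsg
open Cfsg.Agent.SignalizersComponents.Components
open Cfsg.Agent.Cit (cj mem_cj conj_mem_cj cj_mul cj_one)
open Cfsg.Agent.OddHalf.D6.QThree.NISide
open Cfsg.Agent.OddHalf.D6.QThree.NIB (Bt)

variable {X : Type*} [Group X]

/-- an element `u` commuting with `d` of odd order, `u` a 2-element, `u = [d, s]`: `u = 1` -/
theorem eq_one_of_odd {d s u : X} (hd : Odd (orderOf d)) (hu : ∃ n : ℕ, u ^ 2 ^ n = 1) (hdu : d * u = u * d)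
    (he : d * s * d⁻¹ * s⁻¹ = u) : u = 1 := by
  obtain ⟨n, hu⟩ := hu
  have h1 : d * s * d⁻¹ = u * s := by rw [← he]; group
  have key : ∀ n : ℕ, d ^ n * s * (d ^ n)⁻¹ = u ^ n * s := by
    intro n
    induction n with
    | zero => simp
    | succ n ih =>
      have c : Commute d (u ^ n) := (show Commute d u from hdu).pow_right n
      calc d ^ (n + 1) * s * (d ^ (n + 1))⁻¹ = d * (d ^ n * s * (d ^ n)⁻¹) * d⁻¹ := by
            rw [pow_succ']; group
        _ = (d * u ^ n) * s * d⁻¹ := by rw [ih]; group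
        _ = u ^ n * (d * s * d⁻¹) := by rw [c.eq]; group
        _ = u ^ (n + 1) * s := by rw [h1, pow_succ]; group
  have h2 := key (orderOf d)
  rw [pow_orderOf_eq_one, one_mul, inv_one, mul_one] at h2
  have h3 : u ^ orderOf d = 1 := by
    have := h2.symm
    rwa [mul_eq_right] at this
  have h4 : orderOf u ∣ orderOf d := orderOf_dvd_of_pow_eq_one h3
  have h5 : orderOf u ∣ 2 ^ n := orderOf_dvd_of_pow_eq_one hu
  have h6 : Nat.Coprime (orderOf d) (2 ^ n) := Nat.Coprime.pow_right n hd.coprime_two_right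
  have h7 := Nat.eq_one_of_dvd_coprimes h6 h4 h5
  rwa [orderOf_eq_one_iff] at h7

namespace BaseT

variable {z t a₁ a₂ : X} {Q₁ Q₂ Q : Subgroup X} {S : Sylow 2 X}

theorem btz (h : BaseT z t a₁ a₂ Q₁ Q₂ Q S) : Bt t Q₁ Q₂ z :=
  ⟨(h.zc t).symm, fun q _ => (h.zc q).symm, fun q _ => (h.zc q).symm⟩

theorem btt (h : BaseT z t a₁ a₂ Q₁ Q₂ Q S) : Bt t Q₁ Q₂ t :=
  ⟨rfl, fun q hq => (h.s₁.ct q hq).symm, fun q hq => (h.s₂.ct q hq).symm⟩

theorem tinv (h : BaseT z t a₁ a₂ Q₁ Q₂ Q S) : t⁻¹ = t := inv_eq_of_mul_eq_one_right h.tt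

theorem zinv (h : BaseT z t a₁ a₂ Q₁ Q₂ Q S) : z⁻¹ = z := inv_eq_of_mul_eq_one_right h.zz

theorem zQ (h : BaseT z t a₁ a₂ Q₁ Q₂ Q S) : z ∉ Q := fun e => by
  rcases h.Q1 z e h.zz with e | e
  · exact h.z1 e
  · exact h.tz e.symm

/-- the elements of `B` are 2-elements -/
theorem b2 (h : BaseT z t a₁ a₂ Q₁ Q₂ Q S) {b : X} (hb : Bt t Q₁ Q₂ b) : ∃ n : ℕ, b ^ 2 ^ n = 1 := by
  obtain ⟨n, hn⟩ := h.Q2 ⟨b * b, h.Bsq b hb⟩
  refine ⟨n + 1, ?_⟩
  have h1 : (b * b) ^ 2 ^ n = 1 := congrArg Subtype.val hn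
  rw [pow_succ', pow_mul, pow_two b, h1]

theorem symm (h : BaseT z t a₁ a₂ Q₁ Q₂ Q S) : BaseT z t a₂ a₁ Q₂ Q₁ Q S where
  zc := h.zc
  zz := h.zz
  z1 := h.z1
  tt := h.tt
  t1 := h.t1
  tz := h.tz
  O := h.O
  sol := h.sol
  s₁ := h.s₂
  s₂ := h.s₁
  comm := fun x hx y hy => (h.comm y hy x hx).symm
  nor := by
    intro g hg x hx y hy
    obtain ⟨x', hx', y', hy', e⟩ := h.nor g hg y hy x hx
    refine ⟨y', hy', x', hx', ?_⟩
    rw [← h.comm y hy x hx, e, h.comm x' hx' y' hy']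
  rad := by
    intro N h1 h2 h3 n hn
    obtain ⟨x, hx, y, hy, b, hb, e⟩ := h.rad N h1 h2 h3 n hn
    refine ⟨y, hy, x, hx, b, hb.symm, ?_⟩
    rwa [← h.comm x hx y hy]
  odd := fun b hb => h.odd b hb.symm
  oa₁ := h.oa₂
  oa₂ := h.oa₁
  St := h.St
  QB := fun q hq => (h.QB q hq).symm
  Q2 := h.Q2
  Qt := h.Qt
  Q1 := h.Q1
  Bsq := fun b hb => h.Bsq b hb.symm
  Bu := fun b c hb hc => h.Bu b c hb.symm hc.symm

theorem not_le [Finite X] (h : BaseT z t a₁ a₂ Q₁ Q₂ Q S) {M : Subgroup X} (hM : IsQuasisimple M)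
    (hMt : ∀ x ∈ M, x * t = t * x) : False := by
  apply quasisimple_not_isSolvable hM
  have h1 : M ≤ centralizer ({t} : Set X) := fun x hx => mem_centralizer_singleton_iff.2 (hMt x hx)
  have := h.sol
  exact Group.isSolvable_of_isSolvable_injective (f := inclusion h1) (inclusion_injective h1)

/-- `t` normalises every component -/
theorem cj_t [Finite X] (h : BaseT z t a₁ a₂ Q₁ Q₂ Q S) {M : Subgroup X} (hM : IsComponent M) : cj t M = M := by
  by_contra hne
  obtain ⟨D, hD1, -, -, hD3, -⟩ := Cfsg.Agent.Cit.Comp.exists_diag hM h.tt hne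
  exact h.not_le hD3 fun x hx => mem_centralizer_singleton_iff.1 (hD1 hx)

/-- **Claim A** -/
theorem claim (h : BaseT z t a₁ a₂ Q₁ Q₂ Q S) {M : Subgroup X} (hM : IsComponent M) {x w : X} (hs : x * w ∈ M)
    (hx : x ∈ Q₁) (hw : ∀ q ∈ Q₁, w * q = q * w) (haw : a₁ * w = w * a₁) (hx1 : x ≠ 1) (hxz : x ≠ z) :
    Q₁ ≤ M := by
  set x' := a₁ * x * a₁⁻¹ with hx'
  have hx'Q : x' ∈ Q₁ := h.s₁.aQ x hx
  have hxx' : x * x' ≠ x' * x := h.s₁.act x hx hx1 hxz
  have cw : Commute w x := hw x hx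
  have cw' : Commute w x' := hw x' hx'Q
  have e1 : a₁ * (x * w) * a₁⁻¹ = x' * w := by
    calc a₁ * (x * w) * a₁⁻¹ = a₁ * x * (w * a₁⁻¹) := by group
      _ = a₁ * x * (a₁⁻¹ * w) := by rw [(show Commute a₁ w from haw).symm.inv_right.eq]
      _ = x' * w := by rw [hx']; group
  have hne : x * w * (a₁ * (x * w) * a₁⁻¹) ≠ (a₁ * (x * w) * a₁⁻¹) * (x * w) := by
    intro e
    apply hxx'
    rw [e1] at e
    have h1 : x * w * (x' * w) = x * x' * (w * w) := by
      calc x * w * (x' * w) = x * (w * x') * w := by group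
        _ = x * (x' * w) * w := by rw [cw'.eq]
        _ = x * x' * (w * w) := by group
    have h2 : x' * w * (x * w) = x' * x * (w * w) := by
      calc x' * w * (x * w) = x' * (w * x) * w := by group
        _ = x' * (x * w) * w := by rw [cw.eq]
        _ = x' * x * (w * w) := by group
    rw [h1, h2] at e
    exact mul_right_cancel e
  have hcj : cj a₁ M = M := by
    by_contra hcj
    exact hne (Cfsg.Agent.Cit.Comp.comm_of_ne hM (Cfsg.Agent.Cit.Comp.isComponent_cj hM a₁) (fun e => hcj e.symm)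
      hs (conj_mem_cj hs))
  have hs' : a₁ * (x * w) * a₁⁻¹ ∈ M := by
    have := conj_mem_cj (g := a₁) hs
    rwa [hcj] at this
  have hp : (x * w)⁻¹ * (a₁ * (x * w) * a₁⁻¹) = x⁻¹ * x' := by
    rw [e1]
    calc (x * w)⁻¹ * (x' * w) = w⁻¹ * (x⁻¹ * x') * w := by group
      _ = w⁻¹ * (w * (x⁻¹ * x')) := by
          rw [mul_assoc, ((cw.symm.inv_left).mul_left cw'.symm).eq]
      _ = x⁻¹ * x' := by rw [inv_mul_cancel_left]
  have hpM : x⁻¹ * x' ∈ M := by rw [← hp]; exact M.mul_mem (M.inv_mem hs) hs'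
  have hpM' : a₁ * (x⁻¹ * x') * a₁⁻¹ ∈ M := by
    have := conj_mem_cj (g := a₁) hpM
    rwa [hcj] at this
  refine h.s₁.gen h.zc h.zz h.z1 (Q₁.mul_mem (Q₁.inv_mem hx) hx'Q) ?_ ?_ hpM hpM'
  · intro e
    apply hxx'
    rw [inv_mul_eq_one] at e
    rw [← e]
  · intro e
    apply hxx'
    rw [inv_mul_eq_iff_eq_mul] at e
    rw [e, mul_assoc, h.zc x]

/-- `a₁` centralises `B` -/
theorem a₁b (h : BaseT z t a₁ a₂ Q₁ Q₂ Q S) {b : X} (hb : Bt t Q₁ Q₂ b) : a₁ * b = b * a₁ :=
  (h.odd b hb a₁ h.s₁.a_t h.oa₁).symm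

theorem a₂b (h : BaseT z t a₁ a₂ Q₁ Q₂ Q S) {b : X} (hb : Bt t Q₁ Q₂ b) : a₂ * b = b * a₂ :=
  (h.odd b hb a₂ h.s₂.a_t h.oa₂).symm

theorem btq (h : BaseT z t a₁ a₂ Q₁ Q₂ Q S) {x : X} (hx : x = 1 ∨ x = z) : Bt t Q₁ Q₂ x := by
  rcases hx with rfl | rfl
  · exact Bt.one
  · exact h.btz

/-- elements of `R B` in a component containing neither `Q₁` nor `Q₂` -/
theorem bt_of (h : BaseT z t a₁ a₂ Q₁ Q₂ Q S) {M : Subgroup X} (hM : IsComponent M) (h1 : ¬ Q₁ ≤ M)
    (h2 : ¬ Q₂ ≤ M) {x y b : X} (hs : x * y * b ∈ M) (hx : x ∈ Q₁) (hy : y ∈ Q₂)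
    (hb : Bt t Q₁ Q₂ b) : Bt t Q₁ Q₂ (x * y * b) := by
  have hx' : x = 1 ∨ x = z := by
    by_contra hne
    push Not at hne
    refine h1 (h.claim hM (w := y * b) (by rwa [← mul_assoc]) hx (fun q hq => ?_) ?_ hne.1 hne.2)
    · exact ((show Commute y q from (h.comm q hq y hy).symm).mul_left (show Commute b q from hb.2.1 q hq)).eq
    · exact ((show Commute a₁ y from h.s₁.aD y hy).mul_right (show Commute a₁ b from h.a₁b hb)).eq
  have hy' : y = 1 ∨ y = z := by
    by_contra hne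
    push Not at hne
    refine h2 (h.symm.claim hM (w := x * b) (by rwa [← mul_assoc, ← h.comm x hx y hy]) hy (fun q hq => ?_) ?_
      hne.1 hne.2)
    · exact ((show Commute x q from h.comm x hx q hq).mul_left (show Commute b q from hb.2.2 q hq)).eq
    · exact ((show Commute a₂ x from h.s₂.aD x hx).mul_right (show Commute a₂ b from h.a₂b hb)).eq
  exact ((h.btq hx').mul (h.btq hy')).mul hb

theorem R_pow (h : BaseT z t a₁ a₂ Q₁ Q₂ Q S) {x y : X} (hx : x ∈ Q₁) (hy : y ∈ Q₂) : (x * y) ^ 4 = 1 := by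
  have key : ∀ u : X, (u = 1 ∨ u = z) ∨ u * u = z → u ^ 4 = 1 := by
    rintro u ((rfl | rfl) | e)
    · rw [one_pow]
    · rw [show (4 : ℕ) = 2 * 2 from rfl, pow_mul, pow_two u, h.zz, one_pow]
    · rw [show (4 : ℕ) = 2 * 2 from rfl, pow_mul, pow_two u, e, pow_two, h.zz]
  have hx4 : x ^ 4 = 1 := key x (by
    by_cases hh : x = 1 ∨ x = z
    · exact Or.inl hh
    · push Not at hh; exact Or.inr (h.s₁.sq x hx hh.1 hh.2))
  have hy4 : y ^ 4 = 1 := key y (by
    by_cases hh : y = 1 ∨ y = z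
    · exact Or.inl hh
    · push Not at hh; exact Or.inr (h.s₂.sq y hy hh.1 hh.2))
  have cxy : Commute x y := h.comm x hx y hy
  rw [cxy.mul_pow, hx4, hy4, one_mul]


/-- `O(C_X(t)) = 1` -/
theorem core_centralizer [Finite X] (h : BaseT z t a₁ a₂ Q₁ Q₂ Q S) :
    pPrimeCore 2 ↥(centralizer ({t} : Set X)) = ⊥ := by
  set C := centralizer ({t} : Set X) with hC
  rw [eq_bot_iff]
  intro n hn
  have hcop := Cfsg.Agent.Lib.Cores.pPrimeCore_coprime (G := C) 2
  have hodd : ∀ m ∈ pPrimeCore 2 C, (∃ k : ℕ, m ^ 2 ^ k = 1) → m = 1 := by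
    rintro m hm ⟨k, hm4⟩
    have h1 : orderOf m ∣ 2 ^ k := orderOf_dvd_of_pow_eq_one hm4
    have h2 : orderOf m ∣ Nat.card (pPrimeCore 2 C) := by
      rw [← Subgroup.orderOf_mk m hm]
      exact orderOf_dvd_natCard _
    have h3 : Nat.Coprime (2 ^ k) (Nat.card (pPrimeCore 2 C)) := (hcop.symm).pow_left k
    have h4 := Nat.eq_one_of_dvd_coprimes h3 h1 h2
    rwa [orderOf_eq_one_iff] at h4
  have hnt : ∀ m : C, (m : X) * t = t * m := fun m => mem_centralizer_singleton_iff.1 m.2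
  have hN := Cfsg.Agent.Lib.Cores.pPrimeCore_normal (G := C) 2
  have key : ∀ x ∈ Q₁, ∀ y ∈ Q₂, (n : X) * (x * y) = (x * y) * n := by
    intro x hx y hy
    obtain ⟨x', hx', y', hy', e⟩ := h.nor n (hnt n) x hx y hy
    have hrC : x * y ∈ C := mem_centralizer_singleton_iff.2
      (show Commute (x * y) t from (show Commute x t from h.s₁.ct x hx).mul_left (h.s₂.ct y hy))
    set r : C := ⟨x * y, hrC⟩ with hr
    have h1 : n * r * n⁻¹ * r⁻¹ ∈ pPrimeCore 2 C := by
      have h2 : r * n⁻¹ * r⁻¹ ∈ pPrimeCore 2 C := hN.conj_mem _ (inv_mem hn) r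
      have h3 := mul_mem hn h2
      have e3 : n * r * n⁻¹ * r⁻¹ = n * (r * n⁻¹ * r⁻¹) := by group
      rw [e3]; exact h3
    have h2 : n * r * n⁻¹ * r⁻¹ = 1 := by
      apply hodd _ h1
      refine ⟨2, ?_⟩
      apply Subtype.ext
      show ((n : X) * (x * y) * (n : X)⁻¹ * (x * y)⁻¹) ^ 4 = 1
      rw [e]
      have e4 : x' * y' * (x * y)⁻¹ = (x' * x⁻¹) * (y' * y⁻¹) := by
        have c1 : Commute x⁻¹ y⁻¹ := (show Commute x y from h.comm x hx y hy).inv_inv
        have c2 : Commute x⁻¹ y' := (show Commute x y' from h.comm x hx y' hy').inv_left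
        calc x' * y' * (x * y)⁻¹ = x' * y' * (y⁻¹ * x⁻¹) := by rw [mul_inv_rev]
          _ = x' * y' * (x⁻¹ * y⁻¹) := by rw [c1.eq]
          _ = x' * (y' * x⁻¹) * y⁻¹ := by group
          _ = x' * (x⁻¹ * y') * y⁻¹ := by rw [c2.eq]
          _ = (x' * x⁻¹) * (y' * y⁻¹) := by group
      rw [e4]
      exact h.R_pow (Q₁.mul_mem hx' (Q₁.inv_mem hx)) (Q₂.mul_mem hy' (Q₂.inv_mem hy))
    have h3 : (n : X) * (x * y) * (n : X)⁻¹ * (x * y)⁻¹ = 1 := congrArg Subtype.val h2
    rwa [mul_inv_eq_one, mul_inv_eq_iff_eq_mul] at h3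
  rw [mem_bot]
  apply hodd n hn
  obtain ⟨k, hk⟩ := h.b2 (b := (n : X)) ⟨hnt n, fun x hx => by
    have := key x hx 1 Q₂.one_mem
    rwa [mul_one] at this, fun y hy => by
    have := key 1 Q₁.one_mem y hy
    rwa [one_mul] at this⟩
  exact ⟨k, Subtype.ext hk⟩

/-- the centralizer of `t` in a component containing neither `Q₁` nor `Q₂`: it contains the centralizer (in itself) of
a subgroup of `B` -/
theorem exists_core [Finite X] (h : BaseT z t a₁ a₂ Q₁ Q₂ Q S) {M : Subgroup X} (hM : IsComponent M) (h1 : ¬ Q₁ ≤ M)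
    (h2 : ¬ Q₂ ≤ M) :
    ∃ O : Subgroup X, O ≤ M ∧ (∀ o ∈ O, Bt t Q₁ Q₂ o) ∧ (∀ m ∈ M, m * t = t * m → ∀ o ∈ O, m * o * m⁻¹ ∈ O) ∧
      ∀ m ∈ M, m * t = t * m → (∀ o ∈ O, o * m = m * o) → m ∈ O := by
  have : Fact (Nat.Prime 2) := ⟨Nat.prime_two⟩
  have hsol := h.sol
  set C := centralizer ({t} : Set X) with hC
  set S : Subgroup C := M.subgroupOf C with hS
  have hSn : S.IsSubnormal := hM.1.subgroupOf
  have hct : ∀ m : C, (m : X) * t = t * m := fun m => mem_centralizer_singleton_iff.1 m.2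
  have hcore : ∀ s : S, s ∈ pCore 2 S → Bt t Q₁ Q₂ ((s : C) : X) := by
    intro s hs
    have e := Cfsg.Agent.SignalizersComponents.CompBasic.map_subtype_pCore_of_subnormal 2 hSn
    have h3 : (s : C) ∈ S ⊓ pCore 2 C := by rw [← e]; exact ⟨s, hs, rfl⟩
    have hN := Cfsg.Agent.Lib.Cores.pCore_normal (G := C) 2
    obtain ⟨x, hx, y, hy, b, hb, hxy⟩ := h.rad ((pCore 2 C).map C.subtype) (by
        rintro _ ⟨n, -, rfl⟩; exact hct n) ((Cfsg.Agent.Lib.Cores.pCore_isPGroup 2).map _) (by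
        rintro g hg _ ⟨n, hn, rfl⟩
        exact ⟨⟨g, mem_centralizer_singleton_iff.2 hg⟩ * n * ⟨g, mem_centralizer_singleton_iff.2 hg⟩⁻¹,
          hN.conj_mem n hn _, rfl⟩) ((s : C) : X) ⟨s, h3.2, rfl⟩
    have h4 : ((s : C) : X) ∈ M := mem_subgroupOf.1 s.2
    rw [hxy] at h4 ⊢
    exact h.bt_of hM h1 h2 h4 hx hy hb
  have hOS : pPrimeCore 2 S = ⊥ := by
    have e := Cfsg.Agent.SignalizersComponents.CompBasic.map_subtype_pPrimeCore_of_subnormal 2 hSn
    rw [h.core_centralizer, inf_bot_eq] at e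
    exact (map_eq_bot_iff_of_injective _ S.subtype_injective).1 e
  have hSsol : Group.IsSolvable S := inferInstance
  have hcen : centralizer (pCore 2 S : Set S) ≤ pCore 2 S :=
    Cfsg.Agent.OddOrderLocal.RankTwoSolvable.centralizer_pCore_le hOS
  have hNS := Cfsg.Agent.Lib.Cores.pCore_normal (G := S) 2
  refine ⟨((pCore 2 S).map S.subtype).map C.subtype, ?_, ?_, ?_, ?_⟩
  · rintro _ ⟨_, ⟨s, -, rfl⟩, rfl⟩
    exact mem_subgroupOf.1 s.2
  · rintro _ ⟨_, ⟨s, hs, rfl⟩, rfl⟩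
    exact hcore s hs
  · rintro m hm hmt _ ⟨_, ⟨s, hs, rfl⟩, rfl⟩
    have hmC : m ∈ C := mem_centralizer_singleton_iff.2 hmt
    refine ⟨_, ⟨⟨⟨m, hmC⟩, mem_subgroupOf.2 hm⟩ * s * ⟨⟨m, hmC⟩, mem_subgroupOf.2 hm⟩⁻¹, hNS.conj_mem s hs _, rfl⟩,
      rfl⟩
  · intro m hm hmt hmo
    have hmC : m ∈ C := mem_centralizer_singleton_iff.2 hmt
    refine ⟨_, ⟨⟨⟨m, hmC⟩, mem_subgroupOf.2 hm⟩, ?_, rfl⟩, rfl⟩
    apply hcen
    rw [mem_centralizer_iff]
    intro u hu
    apply Subtype.ext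
    apply Subtype.ext
    exact hmo ((u : C) : X) ⟨_, ⟨u, hu, rfl⟩, rfl⟩

/-- a subgroup containing the commutators `[r, a₁]` (`r ∈ Q₁`) contains `Q₁` -/
theorem gen_le (h : BaseT z t a₁ a₂ Q₁ Q₂ Q S) {H : Subgroup X} (hH : ∀ r ∈ Q₁, r * (a₁ * r * a₁⁻¹)⁻¹ ∈ H) : Q₁ ≤ H := by
  obtain ⟨q, hq, hq1, hqz⟩ := h.s₁.exists_ne
  set q' := a₁ * q * a₁⁻¹ with hq'
  have hq'Q : q' ∈ Q₁ := h.s₁.aQ q hq
  have hact := h.s₁.act q hq hq1 hqz
  rw [← hq'] at hact
  have h1 := hH q hq
  have h2 := hH q' hq'Q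
  rw [← hq'] at h1
  refine h.s₁.gen h.zc h.zz h.z1 (Q₁.mul_mem hq (Q₁.inv_mem hq'Q)) ?_ ?_ h1 ?_
  · intro e
    apply hact
    rw [mul_inv_eq_one] at e
    rw [← e]
  · intro e
    apply hact
    rw [mul_inv_eq_iff_eq_mul, ← h.zc] at e
    rw [e, mul_assoc, h.zc q', ← mul_assoc]
  · have e : a₁ * (q * q'⁻¹) * a₁⁻¹ = q' * (a₁ * q' * a₁⁻¹)⁻¹ := by rw [hq']; group
    rw [e]
    exact h2

/-- a subgroup containing the elements of odd order of `C_X(t)` contains `Q₁` -/
theorem le_of_odd (h : BaseT z t a₁ a₂ Q₁ Q₂ Q S) {H : Subgroup X}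
    (hH : ∀ d, d * t = t * d → Odd (orderOf d) → d ∈ H) : Q₁ ≤ H := by
  apply h.gen_le
  intro r hr
  have e : r * (a₁ * r * a₁⁻¹)⁻¹ = (r * a₁ * r⁻¹) * a₁⁻¹ := by group
  rw [e]
  refine H.mul_mem (hH _ ?_ ?_) (H.inv_mem (hH a₁ h.s₁.a_t h.oa₁))
  · have d1 : Commute r t := h.s₁.ct r hr
    have d2 : Commute a₁ t := h.s₁.a_t
    exact ((d1.mul_left d2).mul_left d1.inv_left).eq
  · rw [show r * a₁ * r⁻¹ = MulAut.conj r a₁ from rfl, MulEquiv.orderOf_eq]
    exact h.oa₁

/-- an element commuting with the elements of odd order of `C_X(t)` commutes with `Q₁` -/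
theorem comm_Q₁ (h : BaseT z t a₁ a₂ Q₁ Q₂ Q S) {s : X} (hs : ∀ d, d * t = t * d → Odd (orderOf d) → d * s = s * d) :
    ∀ q ∈ Q₁, s * q = q * s := by
  have hle : Q₁ ≤ centralizer ({s} : Set X) :=
    h.le_of_odd fun d hd ho => mem_centralizer_singleton_iff.2 (hs d hd ho)
  intro q hq
  exact (mem_centralizer_singleton_iff.1 (hle hq)).symm

/-- **(2)**: for a component containing neither `Q₁` nor `Q₂` -/
theorem alpha [Finite X] (h : BaseT z t a₁ a₂ Q₁ Q₂ Q S) {M : Subgroup X} (hM : IsComponent M) (h1 : ¬ Q₁ ≤ M)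
    (h2 : ¬ Q₂ ≤ M) :
    (∀ m ∈ M, m * t = t * m → Bt t Q₁ Q₂ m) ∧
      ((∀ m ∈ M, m * t = t * m → ∀ x ∈ M, m * x = x * m) ∨
        ∀ d, d * t = t * d → Odd (orderOf d) → ∀ m ∈ M, d * m * d⁻¹ ∈ M) := by
  obtain ⟨O, hOM, hOB, hOn, hOc⟩ := h.exists_core hM h1 h2
  by_cases hd : ∃ d, d * t = t * d ∧ Odd (orderOf d) ∧ cj d M ≠ M
  · obtain ⟨d, hdt, hdo, hdM⟩ := hd
    have hcen : ∀ o ∈ O, ∀ x ∈ M, o * x = x * o := by
      intro o ho x hx
      have h3 : d * o * d⁻¹ = o := by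
        rw [← h.odd o (hOB o ho) d hdt hdo, mul_inv_cancel_right]
      have h4 := conj_mem_cj (g := d) (hOM ho)
      rw [h3] at h4
      exact (Cfsg.Agent.Cit.Comp.comm_of_ne hM (Cfsg.Agent.Cit.Comp.isComponent_cj hM d) (fun e => hdM e.symm)
        hx h4).symm
    have hall : ∀ m ∈ M, m * t = t * m → m ∈ O := fun m hm hmt => hOc m hm hmt fun o ho => hcen o ho m hm
    exact ⟨fun m hm hmt => hOB m (hall m hm hmt), Or.inl fun m hm hmt x hx => hcen m (hall m hm hmt) x hx⟩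
  · push Not at hd
    have hdM : ∀ d, d * t = t * d → Odd (orderOf d) → ∀ m ∈ M, d * m * d⁻¹ ∈ M := by
      intro d hdt hdo m hm
      have h3 := conj_mem_cj (g := d) hm
      rwa [hd d hdt hdo] at h3
    refine ⟨fun m hm hmt => ?_, Or.inr hdM⟩
    have key : ∀ d, d * t = t * d → Odd (orderOf d) → d * m = m * d := by
      intro d hdt hdo
      set u := d * m * d⁻¹ * m⁻¹ with hu
      have huM : u ∈ M := M.mul_mem (hdM d hdt hdo m hm) (M.inv_mem hm)
      have cd : Commute d t := hdt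
      have cm : Commute m t := hmt
      have hut : u * t = t * u := (((cd.mul_left cm).mul_left cd.inv_left).mul_left cm.inv_left).eq
      have huO : u ∈ O := by
        refine hOc u huM hut fun o ho => ?_
        have c1 : Commute o d := h.odd o (hOB o ho) d hdt hdo
        have h4 : m⁻¹ * o * m ∈ O := by
          have := hOn m⁻¹ (M.inv_mem hm) cm.inv_left.eq o ho
          rwa [inv_inv] at this
        have c2 : Commute (m⁻¹ * o * m) d := h.odd _ (hOB _ h4) d hdt hdo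
        have c3 : Commute o (m * d⁻¹ * m⁻¹) := by
          have e : o * (m * d⁻¹ * m⁻¹) = m * ((m⁻¹ * o * m) * d⁻¹) * m⁻¹ := by group
          rw [Commute, SemiconjBy, e, c2.inv_right.eq]
          group
        have e : u = d * (m * d⁻¹ * m⁻¹) := by rw [hu]; group
        rw [e]
        exact (c1.mul_right c3).eq
      have h5 : u = 1 := eq_one_of_odd (s := m) hdo (h.b2 (hOB u huO)) (h.odd u (hOB u huO) d hdt hdo).symm hu.symm
      rw [hu, mul_inv_eq_one, mul_inv_eq_iff_eq_mul] at h5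
      exact h5
    exact ⟨hmt, h.comm_Q₁ key, h.symm.comm_Q₁ key⟩


end BaseT

end Cfsg.Agent.OddHalf.D6.QThree.TS

end

-- merged: Cfsg.Agent.OddHalf.D6.QThree.TS.SplitAct
section

/-!
# ODD half, D6, `L₄(3)`, `T = S`: groups acting trivially on a strongly embedded subgroup

`trivial_of_fix`: a group `D` without nontrivial 2-quotients acting on a simple group `N` and trivially on a strongly
embedded subgroup `Γ` acts trivially: `D` acts on the cosets `g Γ ≠ Γ` and commutes with the regular action of the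
2-group `Q` of Bender's theorem.
-/

set_option autoImplicit false

namespace Cfsg.Agent.OddHalf.D6.QThree.TS

open Subgroup Cfsg Cfsg.Agent.StrongEmb.Split

theorem trivial_of_fix {N : Type*} [Group N] [Finite N] [IsSimpleGroup N] (hna : ∃ a b : N, a * b ≠ b * a)
    {Γ : Subgroup N} (hΓ : IsStronglyEmbedded Γ) {D : Type*} [Group D] (φ : D →* MulAut N)
    (hfix : ∀ d, ∀ x ∈ Γ, φ d x = x) (hD : ∀ P : Subgroup D, P.Normal → (∀ d : D, ∃ k : ℕ, d ^ 2 ^ k ∈ P) → P = ⊤) :
    ∀ d x, φ d x = x := by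
  obtain ⟨Q, hs, hQ⟩ := Cfsg.Agent.StrongEmb.Strong.exists_isSplit hna Γ hΓ
  have hout : ∀ d, ∀ g, g ∉ Γ → φ d g ∉ Γ := by
    intro d g hg h
    have h1 := hfix d _ h
    have h2 : φ d g = g := (φ d).injective h1
    rw [h2] at h
    exact hg h
  -- `D` fixes all the cosets
  have key : ∀ g, g ∉ Γ → ∀ d, g⁻¹ * φ d g ∈ Γ := by
    intro g hg
    have hex : ∀ d, ∃ u ∈ Q, (φ d g)⁻¹ * (u * g) ∈ Γ := fun d => hs.trans g (φ d g) hg (hout d g hg)
    choose θ hθQ hθ using hex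
    have huniq : ∀ u ∈ Q, ∀ v ∈ Q, ∀ x, (x⁻¹ * (u * g)) ∈ Γ → (x⁻¹ * (v * g)) ∈ Γ → u = v := by
      intro u hu v hv x h1 h2
      have h3 : g⁻¹ * (v⁻¹ * u * g) ∈ Γ := by
        have h4 := Γ.mul_mem (Γ.inv_mem h2) h1
        have h5 : (x⁻¹ * (v * g))⁻¹ * (x⁻¹ * (u * g)) = g⁻¹ * (v⁻¹ * u * g) := by group
        rwa [h5] at h4
      have h6 := hs.reg g hg _ (Q.mul_mem (Q.inv_mem hv) hu) h3
      exact (inv_mul_eq_one.mp h6).symm
    have hmul : ∀ c d, θ (c * d) = θ d * θ c := by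
      intro c d
      refine huniq _ (hθQ _) _ (Q.mul_mem (hθQ _) (hθQ _)) (φ (c * d) g) (hθ _) ?_
      -- `φ_c (φ_d g) ∈ θ_d φ_c(g) Γ`
      have h1 := hθ d
      have h2 := hfix c _ h1
      rw [map_mul, map_inv, map_mul, hfix c _ (hs.le (hθQ d))] at h2
      have h3 := hθ c
      have h4 : (φ (c * d) g)⁻¹ * (θ d * θ c * g) =
          ((φ c (φ d g))⁻¹ * (θ d * φ c g)) * ((φ c g)⁻¹ * (θ c * g)) := by
        rw [map_mul, MulAut.mul_apply]; group
      rw [h4]
      refine Γ.mul_mem ?_ h3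
      rw [h2]
      exact h1
    have hone : θ 1 = 1 := by
      refine huniq _ (hθQ _) _ Q.one_mem (φ 1 g) (hθ _) ?_
      rw [map_one, MulAut.one_apply, one_mul, inv_mul_cancel]
      exact Γ.one_mem
    let P : Subgroup D :=
      { carrier := {d | θ d = 1}
        mul_mem' := by
          intro c d hc hd
          show θ (c * d) = 1
          rw [hmul, show θ c = 1 from hc, show θ d = 1 from hd, one_mul]
        one_mem' := hone
        inv_mem' := by
          intro d hd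
          have h1 := hmul d d⁻¹
          rw [mul_inv_cancel, hone, show θ d = 1 from hd, mul_one] at h1
          exact h1.symm }
    have hP : P = ⊤ := by
      refine hD P ⟨?_⟩ ?_
      · intro d hd c
        show θ (c * d * c⁻¹) = 1
        rw [hmul, hmul, show θ d = 1 from hd, one_mul, ← hmul, mul_inv_cancel, hone]
      · intro d
        obtain ⟨k, hk⟩ := hQ ⟨θ d, hθQ d⟩
        refine ⟨k, ?_⟩
        have hpow : ∀ n : ℕ, θ (d ^ n) = θ d ^ n := by
          intro n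
          induction n with
          | zero => rw [pow_zero, pow_zero, hone]
          | succ n ih => rw [pow_succ', hmul, ih, pow_succ]
        show θ (d ^ 2 ^ k) = 1
        rw [hpow]
        exact congrArg Subtype.val hk
    intro d
    have h1 : θ d = 1 := by
      have : d ∈ P := by rw [hP]; trivial
      exact this
    have h2 := hθ d
    rw [h1, one_mul] at h2
    have h3 := Γ.inv_mem h2
    have h4 : ((φ d g)⁻¹ * g)⁻¹ = g⁻¹ * φ d g := by group
    rwa [h4] at h3
  -- `[N, D]` is normal and in `Γ`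
  intro d
  let W : Subgroup N := closure (Set.range fun g : N => g⁻¹ * φ d g)
  have hWΓ : W ≤ Γ := by
    rw [closure_le]
    rintro _ ⟨g, rfl⟩
    by_cases hg : g ∈ Γ
    · have : g⁻¹ * φ d g = 1 := by rw [hfix d g hg, inv_mul_cancel]
      show g⁻¹ * φ d g ∈ Γ
      rw [this]; exact Γ.one_mem
    · exact key g hg d
  have hgen : ∀ g, g⁻¹ * φ d g ∈ W := fun g => subset_closure ⟨g, rfl⟩
  have hn : W.Normal := by
    refine ⟨?_⟩
    intro w hw x
    refine closure_induction (p := fun w _ => x * w * x⁻¹ ∈ W) ?_ ?_ ?_ ?_ hw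
    · rintro _ ⟨g, rfl⟩
      have h1 := W.mul_mem (hgen (g * x⁻¹)) (W.inv_mem (hgen x⁻¹))
      have h2 : (g * x⁻¹)⁻¹ * φ d (g * x⁻¹) * (x⁻¹⁻¹ * φ d x⁻¹)⁻¹ = x * (g⁻¹ * φ d g) * x⁻¹ := by
        rw [map_mul, map_inv]; group
      rwa [h2] at h1
    · rw [mul_one, mul_inv_cancel]; exact W.one_mem
    · intro a b _ _ ha hb
      have h1 := W.mul_mem ha hb
      have h2 : x * a * x⁻¹ * (x * b * x⁻¹) = x * (a * b) * x⁻¹ := by group
      rwa [h2] at h1
    · intro a _ ha
      have h1 := W.inv_mem ha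
      have h2 : (x * a * x⁻¹)⁻¹ = x * a⁻¹ * x⁻¹ := by group
      rwa [h2] at h1
  have hW : W = ⊥ := by
    rcases hn.eq_bot_or_eq_top with h1 | h1
    · exact h1
    · exfalso
      apply hΓ.1
      rw [eq_top_iff, ← h1]
      exact hWΓ
  intro x
  have h1 := hgen x
  rw [hW, mem_bot] at h1
  exact (inv_mul_eq_one.mp h1).symm

end Cfsg.Agent.OddHalf.D6.QThree.TS

end

-- merged: Cfsg.Agent.OddHalf.D6.QThree.TS.StrongTriv
section

/-!
# ODD half, D6, `L₄(3)`, `T = S`: an automorphism of odd order that is trivial on a strongly embedded subgroup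

`trivial_of_strong`: an automorphism of odd order of a simple group with two distinct commuting involutions that fixes
every element of a strongly embedded subgroup is trivial (`trivial_of_fix` for the group it generates).
-/

set_option autoImplicit false

namespace Cfsg.Agent.OddHalf.D6.QThree.TS

open Subgroup Cfsg Cfsg.Agent.StrongEmb.TwoRank

/-- a simple group with two distinct commuting involutions is not abelian -/
theorem exists_noncomm {N : Type*} [Group N] [IsSimpleGroup N] (hc : CommPair N) : ∃ a b : N, a * b ≠ b * a := by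
  by_contra hna
  have hna' : ∀ a b : N, a * b = b * a := by
    intro a b
    by_contra h
    exact hna ⟨a, b, h⟩
  obtain ⟨a, b, ha, hb, hab, -⟩ := hc
  have hn : (zpowers a).Normal := by
    refine ⟨?_⟩
    intro n hn g
    rwa [hna' g n, mul_assoc, mul_inv_cancel, mul_one]
  have ha1 : a ≠ 1 := by
    intro h; rw [h, orderOf_one] at ha; exact absurd ha (by norm_num)
  have hb1 : b ≠ 1 := by
    intro h; rw [h, orderOf_one] at hb; exact absurd hb (by norm_num)
  rcases hn.eq_bot_or_eq_top with h | h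
  · exact ha1 (zpowers_eq_bot.mp h)
  · have hbm : b ∈ zpowers a := by rw [h]; trivial
    rw [mem_zpowers_iff] at hbm
    obtain ⟨k, hk⟩ := hbm
    have haa : a ^ (2 : ℤ) = 1 := by
      have := pow_orderOf_eq_one a
      rw [ha] at this
      exact_mod_cast this
    rcases Int.even_or_odd' k with ⟨m, hm | hm⟩
    · apply hb1
      rw [← hk, hm, zpow_mul, haa, one_zpow]
    · apply hab
      rw [← hk, hm, zpow_add, zpow_mul, haa, one_zpow, one_mul, zpow_one]

/-- **an automorphism of odd order that is trivial on a strongly embedded subgroup is trivial** -/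
theorem trivial_of_strong {N : Type*} [Group N] [Finite N] [IsSimpleGroup N] (Gam : Subgroup N)
    (hs : IsStronglyEmbedded Gam) (hc : CommPair N) (phi : MulAut N) (h1 : ∀ x ∈ Gam, phi x = x)
    (ho : Odd (orderOf phi)) : phi = 1 := by
  have hfix : ∀ d : zpowers phi, ∀ x ∈ Gam, (zpowers phi).subtype d x = x := by
    rintro ⟨d, hd⟩ x hx
    show d x = x
    rw [mem_zpowers_iff] at hd
    obtain ⟨k, rfl⟩ := hd
    have hst : phi ∈ (MulAction.stabilizer (MulAut N) x) := by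
      rw [MulAction.mem_stabilizer_iff]
      exact h1 x hx
    have := (MulAction.stabilizer (MulAut N) x).zpow_mem hst k
    rw [MulAction.mem_stabilizer_iff] at this
    exact this
  have h := trivial_of_fix (exists_noncomm hc) hs (zpowers phi).subtype hfix ?_
  · refine MulEquiv.ext fun x => ?_
    exact h ⟨phi, mem_zpowers phi⟩ x
  · intro P _ hP
    rw [eq_top_iff]
    intro d _
    obtain ⟨k, hk⟩ := hP d
    have hod : Odd (orderOf d) := by
      refine Odd.of_dvd_nat ho ?_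
      rw [← Subgroup.orderOf_coe]
      exact orderOf_dvd_of_mem_zpowers d.2
    have hcop : (orderOf d).Coprime (2 ^ k) := (Nat.Coprime.pow_right k (Nat.coprime_two_right.mpr hod))
    obtain ⟨m, hm⟩ := exists_pow_eq_self_of_coprime hcop.symm
    rw [← hm]
    exact P.pow_mem hk m

end Cfsg.Agent.OddHalf.D6.QThree.TS

end

-- merged: Cfsg.Agent.OddHalf.D6.QThree.TS.Alpha
section

/-!
# ODD half, D6, `K = L₄(3)`, `T = S` (helper296, bb #16577): case (α)

`BaseT.alpha_end`: a component `M` of `X = C_G(z)` containing neither `Q₁` nor `Q₂` is centralised by the elements of odd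
order of `C_X(t)`, and it is the only component.
-/

set_option autoImplicit false

namespace Cfsg.Agent.OddHalf.D6.QThree.TS

open Subgroup Cfsg
open Cfsg.Agent.SignalizersComponents.Components
open Cfsg.Agent.Cit (cj mem_cj conj_mem_cj cj_mul cj_one)
open Cfsg.Agent.OddHalf.D6.QThree.NISide
open Cfsg.Agent.OddHalf.D6.QThree.NIB (Bt)
open Cfsg.Agent.StrongEmb.TwoRank (CommPair)

/-- a subgroup of index two containing the squares and avoiding `z` -/
theorem exists_index_two_avoid {W : Type*} [Group W] [Finite W] (P : Subgroup W) (hsq : ∀ w : W, w * w ∈ P) {z : W}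
    (hz : z ∉ P) : ∃ C : Subgroup W, P ≤ C ∧ z ∉ C ∧ C.index = 2 := by
  obtain ⟨C, ⟨hPC, hzC⟩, hmax⟩ := (Set.toFinite {C : Subgroup W | P ≤ C ∧ z ∉ C}).exists_maximal ⟨P, le_refl _, hz⟩
  have hcom : ∀ a b : W, a * b * a⁻¹ * b⁻¹ ∈ C := by
    intro a b
    have h1 : a * b * a⁻¹ * b⁻¹ = (a * a) * ((a⁻¹ * b) * (a⁻¹ * b)) * (b⁻¹ * b⁻¹) := by group
    rw [h1]
    exact hPC (P.mul_mem (P.mul_mem (hsq _) (hsq _)) (hsq _))
  have hCn : C.Normal := by
    refine ⟨fun c hc g => ?_⟩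
    have h1 : g * c * g⁻¹ = (g * c * g⁻¹ * c⁻¹) * c := by group
    rw [h1]
    exact C.mul_mem (hcom g c) hc
  refine ⟨C, hPC, hzC, ?_⟩
  rw [Subgroup.index_eq_two_iff]
  refine ⟨z, fun b => ?_⟩
  by_cases hb : b ∈ C
  · right
    refine ⟨hb, fun h => hzC ?_⟩
    have := C.mul_mem (C.inv_mem hb) h
    rwa [inv_mul_cancel_left] at this
  · left
    refine ⟨?_, hb⟩
    have h1 : z ∈ C ⊔ zpowers b := by
      by_contra hcon
      have h2 := hmax (y := C ⊔ zpowers b) ⟨hPC.trans le_sup_left, hcon⟩ le_sup_left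
      exact hb (h2 ((le_sup_right : zpowers b ≤ _) (mem_zpowers b)))
    obtain ⟨c, hc, d, hd, hcd⟩ := mem_sup_of_normal_left.1 h1
    obtain ⟨k, rfl⟩ := mem_zpowers_iff.1 hd
    have hbb : ∀ n : ℤ, (b * b) ^ n ∈ C := fun n => C.zpow_mem (hPC (hsq b)) n
    have h3 : z * b⁻¹ ∈ C := by
      rcases Int.even_or_odd k with ⟨m, rfl⟩ | ⟨m, rfl⟩
      · exfalso
        apply hzC
        rw [← hcd, ← two_mul, zpow_mul, zpow_ofNat, pow_two]
        exact C.mul_mem hc (hbb m)
      · have h4 : b ^ (2 * m + 1) * b⁻¹ = (b * b) ^ m := by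
          rw [zpow_add, zpow_mul, zpow_ofNat, pow_two, zpow_one, mul_inv_cancel_right]
        rw [← hcd, mul_assoc, h4]
        exact C.mul_mem hc (hbb m)
    have h5 : b * z = (b * z * b⁻¹ * z⁻¹) * (z * b⁻¹) * (b * b) := by group
    rw [h5]
    exact C.mul_mem (C.mul_mem (hcom b z) h3) (hPC (hsq b))

/-- central elements of a perfect group -/
theorem mem_of_central {M : Type*} [Group M] [Finite M] (hM : Group.IsPerfect M) (P : Sylow 2 M) (Q : Subgroup M)
    (hsq : ∀ w ∈ P, w * w ∈ Q) {z : M} (hzP : z ∈ P) (hzz : z * z = 1) (hzc : ∀ g, g * z = z * g) : z ∈ Q := by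
  by_contra hzQ
  obtain ⟨C, -, hzC, hC2⟩ := exists_index_two_avoid (W := ↥(P : Subgroup M)) (Q.subgroupOf (P : Subgroup M))
    (fun w => by rw [mem_subgroupOf]; exact hsq w w.2) (z := ⟨z, hzP⟩) (by rw [mem_subgroupOf]; exact hzQ)
  obtain ⟨g, hg⟩ := CaseM.exists_conj_of_perfect hM P (C.map (P : Subgroup M).subtype)
    (by rintro _ ⟨x, -, rfl⟩; exact x.2)
    (by
      unfold Subgroup.relIndex
      have h1 : (C.map (P : Subgroup M).subtype).subgroupOf (P : Subgroup M) = C :=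
        comap_map_eq_self_of_injective (P : Subgroup M).subtype_injective C
      rw [h1, hC2]) z hzz
  rw [hzc g, mul_inv_cancel_right] at hg
  obtain ⟨y, hy, hyz⟩ := hg
  apply hzC
  have : y = ⟨z, hzP⟩ := Subtype.ext hyz
  rwa [← this]

/-- a nontrivial 2-element has a power which is an involution -/
theorem exists_pow_two {G : Type*} [Group G] {b : G} (hb : ∃ n : ℕ, b ^ 2 ^ n = 1) (hb1 : b ≠ 1) :
    ∃ k : ℕ, b ^ k * b ^ k = 1 ∧ b ^ k ≠ 1 := by
  classical
  have hn := Nat.find_spec hb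
  set n := Nat.find hb with hn'
  have hn0 : n ≠ 0 := by
    intro h0
    rw [h0, pow_zero, pow_one] at hn
    exact hb1 hn
  obtain ⟨m, hm⟩ := Nat.exists_eq_succ_of_ne_zero hn0
  refine ⟨2 ^ m, ?_, fun h => ?_⟩
  · rw [← pow_add, ← two_mul, ← pow_succ']
    rw [hm] at hn
    exact hn
  · have := Nat.find_min hb (m := m) (by rw [← hn', hm]; exact Nat.lt_succ_self m)
    exact this h

namespace BaseT

variable {X : Type*} [Group X] {z t a₁ a₂ : X} {Q₁ Q₂ Q : Subgroup X} {S : Sylow 2 X}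

/-- normal subgroups of odd order of a component are trivial -/
theorem odd_normal [Finite X] (h : BaseT z t a₁ a₂ Q₁ Q₂ Q S) {M : Subgroup X} (hM : IsComponent M)
    {N : Subgroup M} (hN : N.Normal) (ho : Odd (Nat.card N)) : N = ⊥ := by
  have e := Cfsg.Agent.SignalizersComponents.CompBasic.map_subtype_pPrimeCore_of_subnormal 2 hM.1
  rw [h.O, inf_bot_eq, map_eq_bot_iff_of_injective _ M.subtype_injective] at e
  rw [eq_bot_iff, ← e]
  exact Cfsg.Agent.Lib.Cores.le_pPrimeCore hN (Nat.coprime_two_right.mpr ho)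

/-- `t`, `t z` are not isolated in a component -/
theorem not_isolated [Finite X] (h : BaseT z t a₁ a₂ Q₁ Q₂ Q S) {M : Subgroup X} (hM : IsComponent M)
    (P : Sylow 2 M) {i : M} (hi : (i : X) = t ∨ (i : X) = t * z) (hiP : i ∈ P)
    (hiso : ∀ u ∈ P, u * u = 1 → u ≠ 1 → u = i) : False := by
  have hii : i * i = 1 := by
    apply Subtype.ext
    show (i : X) * i = 1
    rcases hi with e | e
    · rw [e, h.tt]
    · rw [e]
      calc t * z * (t * z) = t * (z * t) * z := by group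
        _ = (t * t) * (z * z) := by rw [← h.zc t]; group
        _ = 1 := by rw [h.tt, h.zz, one_mul]
  have hi1 : i ≠ 1 := by
    intro e
    have e1 : (i : X) = 1 := congrArg Subtype.val e
    rcases hi with e2 | e2
    · exact h.t1 (e2.symm.trans e1)
    · rw [e2] at e1
      apply h.tz
      rw [mul_eq_one_iff_eq_inv, h.zinv] at e1
      exact e1
  have hord : orderOf i = 2 := by
    rw [orderOf_eq_iff (by norm_num)]
    refine ⟨by rw [pow_two, hii], fun m hm hm0 => ?_⟩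
    interval_cases m
    rwa [pow_one]
  obtain ⟨N, hN, hNo, hNc⟩ := Cfsg.Agent.S0215.result P i hord hiP (fun g hg => hiso _ hg (by
    calc g * i * g⁻¹ * (g * i * g⁻¹) = g * (i * i) * g⁻¹ := by group
      _ = 1 := by rw [hii, mul_one, mul_inv_cancel]) (fun e => hi1 (conj_eq_one_iff.1 e)))
  rw [h.odd_normal hM hN hNo] at hNc
  apply h.not_le hM.2
  intro x hx
  have h1 := hNc ⟨x, hx⟩
  rw [mem_bot, mul_inv_eq_one, mul_inv_eq_iff_eq_mul] at h1
  have h2 : (i : X) * x = x * i := congrArg Subtype.val h1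
  rcases hi with e | e
  · rw [e] at h2; exact h2.symm
  · have h3 : t = (i : X) * z := by rw [e, mul_assoc, h.zz, mul_one]
    rw [h3]
    exact (((show Commute (i : X) x from h2).mul_left (h.zc x).symm).symm).eq


theorem zS [Finite X] (h : BaseT z t a₁ a₂ Q₁ Q₂ Q S) : z ∈ S := by
  have hn : (zpowers z).Normal := by
    refine ⟨fun n hn g => ?_⟩
    obtain ⟨k, rfl⟩ := mem_zpowers_iff.1 hn
    have h1 : Commute g (z ^ k) := (show Commute g z from h.zc g).zpow_right k
    rw [h1.eq, mul_inv_cancel_right]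
    exact hn
  have h1 : IsPGroup 2 ((S : Subgroup X) ⊔ zpowers z : Subgroup X) :=
    IsPGroup.to_sup_of_normal_right S.2 (NI.isPGroup_zp h.zz)
  have h2 := S.3 h1 le_sup_left
  have h3 : z ∈ ((S : Subgroup X) ⊔ zpowers z : Subgroup X) := (le_sup_right : zpowers z ≤ _) (mem_zpowers z)
  rw [h2] at h3
  exact h3

/-- the involutions of `Q ⟨z⟩` -/
theorem eq_of_QZ (h : BaseT z t a₁ a₂ Q₁ Q₂ Q S) {u : X} (hQ : QZ Q z u) (huu : u * u = 1) (hu1 : u ≠ 1)
    (huz : u ≠ z) : u = t ∨ u = t * z := by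
  rcases hQ with hQ | hQ
  · rcases h.Q1 u hQ huu with e | e
    · exact absurd e hu1
    · exact Or.inl e
  · have h1 : u * z * (u * z) = 1 := by
      calc u * z * (u * z) = u * (z * u) * z := by group
        _ = (u * u) * (z * z) := by rw [← h.zc u]; group
        _ = 1 := by rw [huu, h.zz, one_mul]
    rcases h.Q1 _ hQ h1 with e | e
    · exfalso
      apply huz
      rw [mul_eq_one_iff_eq_inv, h.zinv] at e
      exact e
    · right
      rw [← e, mul_assoc, h.zz, mul_one]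

theorem QZ_mul (h : BaseT z t a₁ a₂ Q₁ Q₂ Q S) {x y : X} (hx : QZ Q z x) (hy : QZ Q z y) : QZ Q z (x * y) := by
  rcases hx with hx | hx <;> rcases hy with hy | hy
  · exact Or.inl (Q.mul_mem hx hy)
  · exact Or.inr (by rw [mul_assoc]; exact Q.mul_mem hx hy)
  · right
    have h1 := Q.mul_mem hx hy
    rwa [mul_assoc, ← h.zc y, ← mul_assoc] at h1
  · left
    have h1 := Q.mul_mem hx hy
    have e : x * z * (y * z) = x * y := by
      calc x * z * (y * z) = x * (z * y) * z := by group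
        _ = x * y * (z * z) := by rw [← h.zc y]; group
        _ = x * y := by rw [h.zz, mul_one]
    rwa [e] at h1

theorem QZ_inv (h : BaseT z t a₁ a₂ Q₁ Q₂ Q S) {x : X} (hx : QZ Q z x) : QZ Q z x⁻¹ := by
  rcases hx with hx | hx
  · exact Or.inl (Q.inv_mem hx)
  · right
    have h1 := Q.inv_mem hx
    rwa [mul_inv_rev, h.zinv, ← h.zc] at h1

theorem tzz (h : BaseT z t a₁ a₂ Q₁ Q₂ Q S) : t * z * (t * z) = 1 := by
  calc t * z * (t * z) = t * (z * t) * z := by group
    _ = (t * t) * (z * z) := by rw [← h.zc t]; group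
    _ = 1 := by rw [h.tt, h.zz, one_mul]

/-- the data of case (α) -/
theorem alpha_inv [Finite X] (h : BaseT z t a₁ a₂ Q₁ Q₂ Q S) {M : Subgroup X} (hM : IsComponent M)
    (h1 : ¬ Q₁ ≤ M) (h2 : ¬ Q₂ ≤ M) :
    ∃ i u : M, ((i : X) = t ∨ (i : X) = t * z) ∧ u * u = 1 ∧ u ≠ 1 ∧ u ≠ i ∧ i * u = u * i ∧
      ∀ v : M, v * v = 1 → v ≠ 1 → ∃ g : M, g * v * g⁻¹ = i := by
  have : Fact (Nat.Prime 2) := ⟨Nat.prime_two⟩
  have hB := (h.alpha hM h1 h2).1
  obtain ⟨P, hP⟩ := Cfsg.Agent.S0542.result 2 M hM.1 S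
  have hPS : ∀ m : M, m ∈ P ↔ (m : X) ∈ S := fun m => by
    have : m ∈ (P : Subgroup M) ↔ m ∈ (S : Subgroup X).subgroupOf M := by rw [hP]
    exact this
  have hPt : ∀ m ∈ P, (m : X) * t = t * m := fun m hm => h.St _ ((hPS m).1 hm)
  have hPB : ∀ m ∈ P, Bt t Q₁ Q₂ (m : X) := fun m hm => hB m m.2 (hPt m hm)
  -- `z ∉ M`
  have hzM : z ∉ M := by
    intro hzM
    have h3 := mem_of_central hM.2.1 P (Q.subgroupOf M) (fun w hw => by
      rw [mem_subgroupOf]; exact h.Bsq _ (hPB w hw)) (z := ⟨z, hzM⟩) ((hPS _).2 h.zS) (Subtype.ext h.zz)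
      (fun g => Subtype.ext (h.zc g))
    exact h.zQ (mem_subgroupOf.1 h3)
  have hQZ : ∀ u : M, QZ Q z (u : X) → u * u = 1 → u ≠ 1 → (u : X) = t ∨ (u : X) = t * z := by
    intro u hu huu hu1
    refine h.eq_of_QZ hu (congrArg Subtype.val huu) (fun e => hu1 (Subtype.ext e)) (fun e => hzM ?_)
    rw [← e]; exact u.2
  have huniq : ∀ u v : M, ((u : X) = t ∨ (u : X) = t * z) → ((v : X) = t ∨ (v : X) = t * z) → u = v := by
    have key : ∀ u v : M, (u : X) = t → (v : X) = t * z → False := by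
      intro u v hu hv
      apply hzM
      have h3 : z = (u : X) * v := by rw [hu, hv, ← mul_assoc, h.tt, one_mul]
      rw [h3]; exact M.mul_mem u.2 v.2
    rintro u v (hu | hu) (hv | hv)
    · exact Subtype.ext (hu.trans hv.symm)
    · exact (key u v hu hv).elim
    · exact (key v u hv hu).elim
    · exact Subtype.ext (hu.trans hv.symm)
  -- an involution
  have hne : ∃ u : M, u ∈ P ∧ u * u = 1 ∧ u ≠ 1 := by
    by_contra hcon
    push Not at hcon
    have hPbot : (P : Subgroup M) = ⊥ := by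
      rw [eq_bot_iff]
      intro x hx
      by_contra hx1
      rw [mem_bot] at hx1
      obtain ⟨n, hn⟩ := P.2 ⟨x, hx⟩
      obtain ⟨k, hk, hk1⟩ := exists_pow_two ⟨n, congrArg Subtype.val hn⟩ hx1
      exact hk1 (hcon (x ^ k) ((P : Subgroup M).pow_mem hx k) hk)
    have hodd : Odd (Nat.card M) := by
      rw [← Nat.not_even_iff_odd, even_iff_two_dvd]
      intro h3
      have h4 := P.dvd_card_of_dvd_card h3
      rw [hPbot, Subgroup.card_bot] at h4
      omega
    have h5 := h.odd_normal hM (N := ⊤) inferInstance (by rwa [Subgroup.card_top])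
    have h6 : Subsingleton M := by
      have := Subgroup.subsingleton_iff.1 (subsingleton_of_bot_eq_top h5.symm)
      exact this
    apply h.not_le hM.2
    intro x hx
    have h7 : (⟨x, hx⟩ : M) = 1 := Subsingleton.elim _ _
    have h8 : x = 1 := congrArg Subtype.val h7
    rw [h8, one_mul, mul_one]
  -- all the elements of the Sylow subgroup in `Q ⟨z⟩`
  have hnall : ∃ w ∈ P, ¬ QZ Q z (w : X) := by
    by_contra hcon
    push Not at hcon
    obtain ⟨i, hiP, hii, hi1⟩ := hne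
    have hi := hQZ i (hcon i hiP) hii hi1
    exact h.not_isolated hM P hi hiP fun u hu huu hu1 => huniq u i (hQZ u (hcon u hu) huu hu1) hi
  obtain ⟨w, hwP, hwQ⟩ := hnall
  let A : Subgroup M :=
    { carrier := {m | m ∈ P ∧ QZ Q z (m : X)}
      one_mem' := ⟨(P : Subgroup M).one_mem, Or.inl Q.one_mem⟩
      mul_mem' := fun hx hy => ⟨(P : Subgroup M).mul_mem hx.1 hy.1, h.QZ_mul hx.2 hy.2⟩
      inv_mem' := fun hx => ⟨(P : Subgroup M).inv_mem hx.1, h.QZ_inv hx.2⟩ }
  have hA : ∀ m : M, m ∈ A ↔ m ∈ P ∧ QZ Q z (m : X) := fun m => Iff.rfl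
  have hAP : A ≤ (P : Subgroup M) := fun m hm => hm.1
  have hA2 : A.relIndex (P : Subgroup M) = 2 := by
    unfold Subgroup.relIndex
    rw [Subgroup.index_eq_two_iff]
    refine ⟨⟨w, hwP⟩, fun b => ?_⟩
    have hbB := hPB b b.2
    have hm1 : b * ⟨w, hwP⟩ ∈ A.subgroupOf (P : Subgroup M) ↔ QZ Q z (((b : M) : X) * (w : X)) := by
      rw [mem_subgroupOf]
      exact ⟨fun hh => hh.2, fun hh => ⟨(P : Subgroup M).mul_mem b.2 hwP, hh⟩⟩
    have hm2 : b ∈ A.subgroupOf (P : Subgroup M) ↔ QZ Q z ((b : M) : X) := by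
      rw [mem_subgroupOf]
      exact ⟨fun hh => hh.2, fun hh => ⟨b.2, hh⟩⟩
    by_cases hb : QZ Q z ((b : M) : X)
    · right
      refine ⟨hm2.2 hb, fun hh => hwQ ?_⟩
      have h3 := h.QZ_mul (h.QZ_inv hb) (hm1.1 hh)
      rwa [inv_mul_cancel_left] at h3
    · left
      refine ⟨hm1.2 ?_, fun hh => hb (hm2.1 hh)⟩
      rcases h.Bu _ _ hbB.inv (hPB w hwP) with h3 | h3 | h3
      · exact absurd (by have := h.QZ_inv h3; rwa [inv_inv] at this) hb
      · exact absurd h3 hwQ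
      · rwa [inv_inv] at h3
  have hconj : ∀ v : M, v * v = 1 → v ≠ 1 → ∃ g : M, (((g * v * g⁻¹ : M) : X) = t ∨ ((g * v * g⁻¹ : M) : X) = t * z) ∧
      g * v * g⁻¹ ∈ P := by
    intro v hvv hv1
    obtain ⟨g, hg⟩ := CaseM.exists_conj_of_perfect hM.2.1 P A hAP hA2 v hvv
    refine ⟨g, hQZ _ hg.2 ?_ (fun e => hv1 (conj_eq_one_iff.1 e)), hg.1⟩
    calc g * v * g⁻¹ * (g * v * g⁻¹) = g * (v * v) * g⁻¹ := by group
      _ = 1 := by rw [hvv, mul_one, mul_inv_cancel]
  obtain ⟨u₀, -, hu₀, hu₁⟩ := hne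
  obtain ⟨g₀, hi, hiP⟩ := hconj u₀ hu₀ hu₁
  set i : M := g₀ * u₀ * g₀⁻¹ with hidef
  obtain ⟨u, huP, huu, hu1, hui⟩ : ∃ u ∈ P, u * u = 1 ∧ u ≠ 1 ∧ u ≠ i := by
    by_contra hcon
    push Not at hcon
    exact h.not_isolated hM P hi hiP hcon
  refine ⟨i, u, hi, huu, hu1, hui, ?_, fun v hvv hv1 => ?_⟩
  · apply Subtype.ext
    show (i : X) * u = u * i
    have c1 : Commute (t : X) u := (show Commute (u : X) t from hPt u huP).symm
    rcases hi with e | e
    · rw [e]; exact c1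
    · rw [e]; exact c1.mul_left (h.zc (u : X)).symm
  · obtain ⟨g, hg, -⟩ := hconj v hvv hv1
    exact ⟨g, huniq _ _ hg hi⟩

end BaseT

end Cfsg.Agent.OddHalf.D6.QThree.TS

end

-- merged: Cfsg.Agent.OddHalf.D6.QThree.TS.AlphaEnd
section

/-!
# ODD half, D6, `K = L₄(3)`, `T = S` (helper296, bb #16577): the end of case (α)

`BaseT.alpha_end`: a component `M` of `X = C_G(z)` containing neither `Q₁` nor `Q₂` is centralised by the elements of odd
order of `C_X(t)`, and it is the only component.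
-/

set_option autoImplicit false

namespace Cfsg.Agent.OddHalf.D6.QThree.TS

open Subgroup Cfsg
open Cfsg.Agent.SignalizersComponents.Components
open Cfsg.Agent.Cit (cj mem_cj conj_mem_cj cj_mul cj_one)
open Cfsg.Agent.OddHalf.D6.QThree.NISide
open Cfsg.Agent.OddHalf.D6.QThree.NIB (Bt)
open Cfsg.Agent.StrongEmb.TwoRank (CommPair)

theorem orderOf_two {G : Type*} [Group G] {u : G} (huu : u * u = 1) (hu1 : u ≠ 1) : orderOf u = 2 :=
  orderOf_eq_prime (by rw [pow_two, huu]) hu1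

namespace BaseT

variable {X : Type*} [Group X] {z t a₁ a₂ : X} {Q₁ Q₂ Q : Subgroup X} {S : Sylow 2 X}

/-- elements commuting with `t` or `t z` -/
theorem comm_of (h : BaseT z t a₁ a₂ Q₁ Q₂ Q S) {i x : X} (hi : i = t ∨ i = t * z) (hx : x * i = i * x) :
    x * t = t * x := by
  rcases hi with e | e
  · rw [← e]; exact hx
  · have h3 : t = i * z := by rw [e, mul_assoc, h.zz, mul_one]
    rw [h3]
    exact ((show Commute x i from hx).mul_right (h.zc x)).eq

/-- a component containing `t` or `t z` is the only component -/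
theorem only [Finite X] (h : BaseT z t a₁ a₂ Q₁ Q₂ Q S) {M : Subgroup X} (hM : IsComponent M) {i : X}
    (hiM : i ∈ M) (hi : i = t ∨ i = t * z) {M' : Subgroup X} (hM' : IsComponent M') : M' = M := by
  by_contra hne
  exact h.not_le hM'.2 fun x hx => h.comm_of hi (Cfsg.Agent.Cit.Comp.comm_of_ne hM' hM hne hx hiM)

theorem alpha_end [Finite X] (h : BaseT z t a₁ a₂ Q₁ Q₂ Q S) {M : Subgroup X} (hM : IsComponent M)
    (h1 : ¬ Q₁ ≤ M) (h2 : ¬ Q₂ ≤ M) :
    (∀ d ∈ oddC t, ∀ m ∈ M, d * m = m * d) ∧ ∀ M' : Subgroup X, IsComponent M' → M' = M := by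
  have hB := (h.alpha hM h1 h2).1
  obtain ⟨i, u, hi, huu, hu1, hui, hiu, hcj⟩ := h.alpha_inv hM h1 h2
  have honly : ∀ M' : Subgroup X, IsComponent M' → M' = M := fun M' hM' => h.only hM i.2 hi hM'
  refine ⟨?_, honly⟩
  have hcjM : ∀ g, cj g M = M := fun g => honly _ (Cfsg.Agent.Cit.Comp.isComponent_cj hM g)
  have hMn : M.Normal := by
    refine ⟨fun m hm g => ?_⟩
    have h3 := conj_mem_cj (g := g) hm
    rwa [hcjM g] at h3
  set D : Set X := {d | d * t = t * d ∧ Odd (orderOf d)} with hD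
  have hDi : ∀ d ∈ D, d * (i : X) = i * d := by
    intro d hd
    have c : Commute d t := hd.1
    rcases hi with e | e
    · rw [e]; exact c
    · rw [e]; exact c.mul_right (h.zc d)
  -- (*)
  have hstar : ∀ n : M, (∀ d ∈ D, d * ((n : X) * i * (n : X)⁻¹) = ((n : X) * i * (n : X)⁻¹) * d) →
      ∀ d ∈ D, d * (n : X) = n * d := by
    intro n hn d hd
    have h3 : (n : X)⁻¹ * d * n * i = i * ((n : X)⁻¹ * d * n) := by
      have h4 := hn d hd
      calc (n : X)⁻¹ * d * n * i = (n : X)⁻¹ * (d * ((n : X) * i * (n : X)⁻¹)) * n := by group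
        _ = (n : X)⁻¹ * (((n : X) * i * (n : X)⁻¹) * d) * n := by rw [h4]
        _ = i * ((n : X)⁻¹ * d * n) := by group
    have h5 : (n : X)⁻¹ * d * n * t = t * ((n : X)⁻¹ * d * n) := h.comm_of hi h3
    have h6 : d⁻¹ * ((n : X)⁻¹ * d * n) ∈ M := by
      have h7 := M.mul_mem (hMn.conj_mem _ (M.inv_mem n.2) d⁻¹) n.2
      have e : d⁻¹ * (n : X)⁻¹ * d⁻¹⁻¹ * n = d⁻¹ * ((n : X)⁻¹ * d * n) := by group
      rwa [e] at h7
    have h8 : d⁻¹ * ((n : X)⁻¹ * d * n) * t = t * (d⁻¹ * ((n : X)⁻¹ * d * n)) :=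
      ((show Commute d t from hd.1).inv_left.mul_left h5).eq
    have h9 := hB _ h6 h8
    have h10 : d⁻¹ * ((n : X)⁻¹ * d * n) = 1 := by
      refine eq_one_of_odd (d := d⁻¹) (s := (n : X)⁻¹) (by rw [orderOf_inv]; exact hd.2) (h.b2 h9) ?_ (by group)
      exact ((show Commute (d⁻¹ * ((n : X)⁻¹ * d * n)) d from h.odd _ h9 d hd.1 hd.2).inv_right.symm).eq
    rw [inv_mul_eq_one] at h10
    calc d * (n : X) = (n : X) * ((n : X)⁻¹ * d * n) := by group
      _ = n * d := by rw [← h10]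
  -- `Γ = C_M(D)`
  set Γ : Subgroup M := (centralizer D).subgroupOf M with hΓ
  have hmem : ∀ m : M, m ∈ Γ ↔ ∀ d ∈ D, d * (m : X) = m * d := fun m => by
    rw [hΓ, mem_subgroupOf, mem_centralizer_iff]
  have hiΓ : i ∈ Γ := (hmem i).2 hDi
  have hinv : ∀ v ∈ Γ, v * v = 1 → v ≠ 1 → ∃ x ∈ Γ, x * i * x⁻¹ = v := by
    intro v hv hvv hv1
    obtain ⟨g, hg⟩ := hcj v hvv hv1
    have hv' : g⁻¹ * i * g⁻¹⁻¹ = v := by rw [← hg]; group
    refine ⟨g⁻¹, (hmem _).2 (hstar g⁻¹ fun d hd => ?_), hv'⟩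
    have h3 : ((g⁻¹ : M) : X) * i * ((g⁻¹ : M) : X)⁻¹ = v := congrArg Subtype.val hv'
    rw [h3]
    exact (hmem v).1 hv d hd
  have hstarΓ : ∀ n : M, n * i * n⁻¹ ∈ Γ → n ∈ Γ := fun n hn => (hmem n).2 (hstar n ((hmem _).1 hn))
  have hii : i * i = 1 := by
    apply Subtype.ext
    show (i : X) * i = 1
    rcases hi with e | e <;> rw [e]
    · exact h.tt
    · exact h.tzz
  have hi1 : i ≠ 1 := by
    intro e
    have h3 : (i : X) = 1 := congrArg Subtype.val e
    rcases hi with e2 | e2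
    · exact h.t1 (e2.symm.trans h3)
    · rw [e2] at h3
      apply h.tz
      rw [mul_eq_one_iff_eq_inv, h.zinv] at h3
      exact h3
  -- it is enough to treat the elements of odd order
  have key : ∀ d ∈ D, ∀ m ∈ M, d * m = m * d := by
    by_cases hΓt : Γ = ⊤
    · intro d hd m hm
      have h3 : (⟨m, hm⟩ : M) ∈ Γ := by rw [hΓt]; exact mem_top _
      exact (hmem _).1 h3 d hd
    · -- strongly embedded
      have hs : IsStronglyEmbedded Γ := by
        refine ⟨hΓt, ?_, fun g hg => ?_⟩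
        · rw [even_iff_two_dvd, ← orderOf_two (G := Γ) (u := ⟨i, hiΓ⟩) (Subtype.ext hii)
            (fun e => hi1 (congrArg Subtype.val e))]
          exact orderOf_dvd_natCard _
        · rw [← Nat.not_even_iff_odd, even_iff_two_dvd]
          intro hdvd
          have : Fact (Nat.Prime 2) := ⟨Nat.prime_two⟩
          obtain ⟨v, hv⟩ := exists_prime_orderOf_dvd_card' 2 hdvd
          have hvv : (v : M) * v = 1 := by
            have := pow_orderOf_eq_one v
            rw [hv, pow_two] at this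
            exact congrArg Subtype.val this
          have hv1 : (v : M) ≠ 1 := by
            intro e
            have h3 : v = 1 := Subtype.ext e
            rw [h3, orderOf_one] at hv
            omega
          have hvΓ : (v : M) ∈ Γ := v.2.1
          obtain ⟨w, hw, hwv⟩ := v.2.2
          have hwv' : g * w * g⁻¹ = v := hwv
          have hw2 : w * w = 1 := by
            have h3 : w = g⁻¹ * (v : M) * g := by rw [← hwv']; group
            rw [h3]
            calc g⁻¹ * (v : M) * g * (g⁻¹ * (v : M) * g) = g⁻¹ * ((v : M) * v) * g := by group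
              _ = 1 := by rw [hvv]; group
          have hw1 : w ≠ 1 := by
            rintro rfl
            apply hv1
            rw [← hwv', mul_one, mul_inv_cancel]
          obtain ⟨x, hx, hxv⟩ := hinv v hvΓ hvv hv1
          obtain ⟨y, hy, hyw⟩ := hinv w hw hw2 hw1
          apply hg
          have h4 : g * y ∈ Γ := by
            apply hstarΓ
            have h5 : g * y * i * (g * y)⁻¹ = v := by
              rw [← hwv', ← hyw]; group
            rw [h5]; exact hvΓ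
          have := Γ.mul_mem h4 (Γ.inv_mem hy)
          rwa [mul_inv_cancel_right] at this
      -- `M` is simple
      have hZ : center M = ⊥ := by
        rw [eq_bot_iff]
        intro c hc
        rw [mem_bot]
        by_contra hc1
        rw [mem_center_iff] at hc
        have hct : (c : X) * t = t * c := h.comm_of hi (congrArg Subtype.val (hc i)).symm
        have h3 := h.b2 (hB c c.2 hct)
        obtain ⟨n, hn⟩ := h3
        obtain ⟨k, hk, hk1⟩ := exists_pow_two (b := c) ⟨n, Subtype.ext hn⟩ hc1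
        obtain ⟨g, hg⟩ := hcj (c ^ k) hk hk1
        have hcomm : ∀ x : M, Commute x (c ^ k) := fun x => (show Commute x c from hc x).pow_right k
        have h4 : c ^ k = i := by
          rw [← hg, (hcomm g).eq, mul_inv_cancel_right]
        apply h.not_le hM.2
        intro x hx
        have h5 := (hcomm ⟨x, hx⟩).eq
        rw [h4] at h5
        exact h.comm_of hi (congrArg Subtype.val h5)
      have hsimple : IsSimpleGroup M := by
        have h3 := hM.2.2
        have e : (M ⧸ center M) ≃* M := (QuotientGroup.quotientMulEquivOfEq hZ).trans QuotientGroup.quotientBot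
        exact e.symm.isSimpleGroup
      have hc : CommPair M := ⟨i, u, orderOf_two hii hi1, orderOf_two huu hu1, hui.symm, hiu⟩
      intro d hd m hm
      have h3 : (MulAut.conjNormal d : MulAut M) = 1 := by
        refine trivial_of_strong Γ hs hc _ (fun x hx => ?_) ?_
        · apply Subtype.ext
          rw [MulAut.conjNormal_apply, (hmem x).1 hx d hd, mul_inv_cancel_right]
        · refine Odd.of_dvd_nat hd.2 ?_
          exact orderOf_map_dvd (MulAut.conjNormal : X →* MulAut M) d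
      have h4 := congrArg (fun φ : MulAut M => ((φ ⟨m, hm⟩ : M) : X)) h3
      have h5 : d * m * d⁻¹ = m := h4
      rwa [mul_inv_eq_iff_eq_mul] at h5
  intro d hd m hm
  have h3 : oddC t ≤ centralizer ({m} : Set X) := by
    unfold oddC
    rw [closure_le]
    intro x hx
    exact mem_centralizer_singleton_iff.2 (key x hx m hm)
  exact mem_centralizer_singleton_iff.1 (h3 hd)

end BaseT

end Cfsg.Agent.OddHalf.D6.QThree.TS

end

-- merged: Cfsg.Agent.OddHalf.D6.QThree.TS.IndexTwo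
section

/-!
# ODD half, D6, `K = L₄(3)`, `T = S`: (beta1), a 2-group `W` with `C_W(Q) = ⟨z, b⟩` and `C_W(b) = Q ⟨b⟩` (helper890)

`exists_index_two_b` (bb #16577, #17149 of helper296): `Q ≅ Q₈` is normal in the 2-group `W`, `C_W(Q) = {1, z, b, b z}`,
`C_W(b) = Q ⟨b⟩`. Then a subgroup of index two of `W` has only one involution `z`.
-/

set_option autoImplicit false

namespace Cfsg.Agent.OddHalf.D6.QThree.TS

open Subgroup Cfsg
open Cfsg.Agent.OddHalf.D6.QThree.NISide

variable {X : Type*} [Group X]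

/-- the only involution of `Q` is `z` -/
theorem side_inv {z t a : X} {Q D : Subgroup X} (s : Side z t a Q D) (z1 : z ≠ 1) {x : X} (hx : x ∈ Q)
    (hxx : x * x = 1) : x = 1 ∨ x = z := by
  by_contra hne
  push Not at hne
  have := s.sq x hx hne.1 hne.2
  rw [hxx] at this
  exact z1 this.symm

/-- the centralizer in `Q` of an element of order four -/
theorem side_comm {z t a : X} {Q D : Subgroup X} (s : Side z t a Q D) (zc : ∀ x : X, x * z = z * x)
    (zz : z * z = 1) (z1 : z ≠ 1) {p c : X} (hp : p ∈ Q) (hp1 : p ≠ 1) (hpz : p ≠ z) (hc : c ∈ Q)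
    (hcp : c * p = p * c) : c = 1 ∨ c = z ∨ c = p ∨ c = p * z := by
  by_cases h1 : c = 1
  · exact Or.inl h1
  by_cases h2 : c = z
  · exact Or.inr (Or.inl h2)
  have hzi : z⁻¹ = z := inv_eq_of_mul_eq_one_right zz
  have hpp := s.sq p hp hp1 hpz
  have hcc := s.sq c hc h1 h2
  have hpi : p⁻¹ = p * z := by rw [inv_eq_iff_mul_eq_one, ← mul_assoc, hpp, zz]
  have h3 : c * p * (c * p) = 1 := by
    calc c * p * (c * p) = c * (p * c) * p := by group
      _ = c * (c * p) * p := by rw [hcp]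
      _ = (c * c) * (p * p) := by group
      _ = 1 := by rw [hcc, hpp, zz]
  right; right
  rcases side_inv s z1 (Q.mul_mem hc hp) h3 with h | h
  · right
    rw [mul_eq_one_iff_eq_inv] at h
    rw [h, hpi]
  · left
    have h4 : c = z * p⁻¹ := by rw [← h, mul_inv_cancel_right]
    rw [h4, hpi, ← zc (p * z), mul_assoc, zz, mul_one]

/-- an element normalising `Q`, fixing `p` of order four, is trivial on `Q / ⟨z⟩` or its square inverts an element -/
theorem side_fix {z t a : X} {Q D : Subgroup X} (s : Side z t a Q D) (zc : ∀ x : X, x * z = z * x)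
    (zz : z * z = 1) (z1 : z ≠ 1) {p u : X} (hp : p ∈ Q) (hp1 : p ≠ 1) (hpz : p ≠ z)
    (hN : ∀ q ∈ Q, u * q * u⁻¹ ∈ Q) (hu : u * p * u⁻¹ = p ∨ u * p * u⁻¹ = p * z) :
    (∀ q ∈ Q, u * q * u⁻¹ = q ∨ u * q * u⁻¹ = q * z) ∨
      ∃ r ∈ Q, p * r ≠ r * p ∧ ∃ c ∈ Q, (c = p ∨ c = p * z) ∧ u * r * u⁻¹ = r * c := by
  by_cases h : ∀ q ∈ Q, u * q * u⁻¹ = q ∨ u * q * u⁻¹ = q * z
  · exact Or.inl h
  right
  push Not at h
  obtain ⟨r, hr, h1, h2⟩ := h
  have hzg : ∀ w : X, u * (w * z) * u⁻¹ = u * w * u⁻¹ * z := by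
    intro w
    calc u * (w * z) * u⁻¹ = u * w * (z * u⁻¹) := by group
      _ = u * w * (u⁻¹ * z) := by rw [zc u⁻¹]
      _ = u * w * u⁻¹ * z := by group
  -- `r` does not commute with `p`
  have hrp : p * r ≠ r * p := by
    intro h3
    rcases side_comm s zc zz z1 hp hp1 hpz hr h3.symm with h4 | h4 | h4 | h4
    · apply h1; rw [h4]; group
    · apply h1; rw [h4, zc u]; group
    · rw [h4] at h1 h2; exact hu.elim h1 h2
    · rw [h4] at h1 h2
      rw [hzg] at h1 h2
      rcases hu with h5 | h5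
      · exact h1 (by rw [h5])
      · exact h2 (by rw [h5])
  refine ⟨r, hr, hrp, r⁻¹ * (u * r * u⁻¹), Q.mul_mem (Q.inv_mem hr) (hN r hr), ?_, by group⟩
  -- conjugation by `r` and by `u r u⁻¹` of `p`
  have h3 : r * p * r⁻¹ = p * z := s.comm_eq hp hr hrp zc zz
  have h4 : u * r * u⁻¹ * p * (u * r * u⁻¹)⁻¹ = p * z := by
    rcases hu with h5 | h5
    · calc u * r * u⁻¹ * p * (u * r * u⁻¹)⁻¹ = u * r * u⁻¹ * (u * p * u⁻¹) * (u * r * u⁻¹)⁻¹ := by rw [h5]
        _ = u * (r * p * r⁻¹) * u⁻¹ := by group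
        _ = p * z := by rw [h3, hzg, h5]
    · have h6 : u * (p * z) * u⁻¹ = p := by rw [hzg, h5, mul_assoc, zz, mul_one]
      calc u * r * u⁻¹ * p * (u * r * u⁻¹)⁻¹ = u * r * u⁻¹ * (u * (p * z) * u⁻¹) * (u * r * u⁻¹)⁻¹ := by rw [h6]
        _ = u * (r * p * (z * r⁻¹)) * u⁻¹ := by group
        _ = u * (r * p * (r⁻¹ * z)) * u⁻¹ := by rw [zc r⁻¹]
        _ = u * ((r * p * r⁻¹) * z) * u⁻¹ := by group
        _ = u * (p * z * z) * u⁻¹ := by rw [h3]
        _ = u * p * u⁻¹ := by rw [mul_assoc p, zz, mul_one]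
        _ = p * z := h5
  have h5 : r⁻¹ * (u * r * u⁻¹) * p = p * (r⁻¹ * (u * r * u⁻¹)) := by
    have h6 : u * r * u⁻¹ * p = p * z * (u * r * u⁻¹) := by rw [← h4]; group
    have h7 : p * z = r * p * r⁻¹ := h3.symm
    calc r⁻¹ * (u * r * u⁻¹) * p = r⁻¹ * (u * r * u⁻¹ * p) := by group
      _ = r⁻¹ * (r * p * r⁻¹ * (u * r * u⁻¹)) := by rw [h6, h7]
      _ = p * (r⁻¹ * (u * r * u⁻¹)) := by group
  rcases side_comm s zc zz z1 hp hp1 hpz (Q.mul_mem (Q.inv_mem hr) (hN r hr)) h5 with h6 | h6 | h6 | h6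
  · exact absurd (by rw [inv_mul_eq_one] at h6; exact h6.symm) h1
  · exact absurd (by rw [inv_mul_eq_iff_eq_mul] at h6; exact h6) h2
  · exact Or.inl h6
  · exact Or.inr h6

/-- **(beta1)**: `Q` normal in `W`, `C_W(Q) = {1, z, b, b z}`, `C_W(b) = Q ⟨b⟩` -/
theorem exists_index_two_b {z t a b : X} {Q D W : Subgroup X} (s : Side z t a Q D)
    (zc : ∀ x : X, x * z = z * x) (zz : z * z = 1) (z1 : z ≠ 1) (_hW : IsPGroup 2 W) (hQW : Q ≤ W)
    (hN : ∀ w ∈ W, ∀ q ∈ Q, w * q * w⁻¹ ∈ Q)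
    (bb : b * b = 1) (bW : b ∈ W) (b1 : b ≠ 1) (bz : b ≠ z)
    (hC : ∀ w ∈ W, (∀ q ∈ Q, w * q = q * w) → w = 1 ∨ w = z ∨ w = b ∨ w = b * z)
    (hcb : ∀ w ∈ W, w * b = b * w → ∃ q ∈ Q, ∀ r ∈ Q, (q⁻¹ * w) * r = r * (q⁻¹ * w))
    (bQ : ∀ q ∈ Q, b * q = q * b) :
    ∃ C : Subgroup X, C ≤ W ∧ C.relIndex W = 2 ∧ ∀ x ∈ C, x * x = 1 → x = 1 ∨ x = z := by
  have hzi : z⁻¹ = z := inv_eq_of_mul_eq_one_right zz
  have hbi : b⁻¹ = b := inv_eq_of_mul_eq_one_right bb
  have hzW : z ∈ W := hQW s.zQ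
  have hbQ : b ∉ Q := by
    intro h
    rcases side_inv s z1 h bb with h | h
    exacts [b1 h, bz h]
  -- membership in `Q ⟨b⟩`
  have hE : ∀ w ∈ W, ∀ q ∈ Q, (∀ r ∈ Q, (q⁻¹ * w) * r = r * (q⁻¹ * w)) → w ∈ Q ∨ w * b ∈ Q := by
    intro w hw q hq h
    have h1 := hC _ (W.mul_mem (W.inv_mem (hQW hq)) hw) h
    have h2 : w = q * (q⁻¹ * w) := by group
    rcases h1 with h1 | h1 | h1 | h1
    · left; rw [h2, h1]; exact Q.mul_mem hq Q.one_mem
    · left; rw [h2, h1]; exact Q.mul_mem hq s.zQ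
    · right; rw [h2, h1, mul_assoc, bb, mul_one]; exact hq
    · right
      rw [h2, h1, mul_assoc, mul_assoc b z b, ← zc b, ← mul_assoc b b z, bb, one_mul]
      exact Q.mul_mem hq s.zQ
  -- an element outside `Q ⟨b⟩` moves `b`
  have hmv : ∀ w ∈ W, w ∉ Q → w * b ∉ Q → w * b * w⁻¹ = b * z := by
    intro w hw h1 h2
    have h3 : ∀ q ∈ Q, w * b * w⁻¹ * q = q * (w * b * w⁻¹) := by
      intro q hq
      have h4 : w⁻¹ * q * w ∈ Q := by
        have := hN _ (W.inv_mem hw) q hq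
        rwa [inv_inv] at this
      calc w * b * w⁻¹ * q = w * (b * (w⁻¹ * q * w)) * w⁻¹ := by group
        _ = w * ((w⁻¹ * q * w) * b) * w⁻¹ := by rw [bQ _ h4]
        _ = q * (w * b * w⁻¹) := by group
    rcases hC _ (W.mul_mem (W.mul_mem hw bW) (W.inv_mem hw)) h3 with h4 | h4 | h4 | h4
    · exfalso
      apply b1
      have : b = w⁻¹ * (w * b * w⁻¹) * w := by group
      rw [this, h4]; group
    · exfalso
      apply bz
      have : b = w⁻¹ * (w * b * w⁻¹) * w := by group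
      rw [this, h4, zc w⁻¹, mul_assoc, inv_mul_cancel, mul_one]
    · exfalso
      obtain ⟨q, hq, hr⟩ := hcb w hw (mul_inv_eq_iff_eq_mul.1 h4)
      rcases hE w hw q hq hr with h5 | h5
      exacts [h1 h5, h2 h5]
    · exact h4
  by_cases hall : ∀ w ∈ W, w ∈ Q ∨ w * b ∈ Q
  · -- `W = Q ⟨b⟩`
    refine ⟨Q, hQW, ?_, fun x hx hxx => side_inv s z1 hx hxx⟩
    rw [relIndex_eq_two_iff]
    refine ⟨b, bW, fun w hw => ?_⟩
    rcases hall w hw with h | h
    · right
      refine ⟨h, fun h1 => hbQ ?_⟩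
      have := Q.mul_mem (Q.inv_mem h) h1
      rwa [inv_mul_cancel_left] at this
    · left
      refine ⟨h, fun h1 => hbQ ?_⟩
      have := Q.mul_mem (Q.inv_mem h1) h
      rwa [inv_mul_cancel_left] at this
  push Not at hall
  obtain ⟨x, hx, hx1, hx2⟩ := hall
  -- not inner
  have hni : ∀ w ∈ W, w ∉ Q → w * b ∉ Q → ¬ ∀ q ∈ Q, w * q * w⁻¹ = q ∨ w * q * w⁻¹ = q * z := by
    intro w hw hw1 hw2 h
    obtain ⟨r, hr, h1⟩ := s.exists_inner zc zz z1 h
    have h2 := hE (w * r) (W.mul_mem hw (hQW hr)) 1 Q.one_mem (by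
      intro q hq; rw [inv_one, one_mul]; exact h1 q hq)
    rcases h2 with h2 | h2
    · apply hw1
      have := Q.mul_mem h2 (Q.inv_mem hr)
      rwa [mul_inv_cancel_right] at this
    · apply hw2
      have h3 := Q.mul_mem h2 (Q.inv_mem hr)
      rwa [mul_assoc (w * r) b r⁻¹, bQ _ (Q.inv_mem hr), ← mul_assoc, mul_inv_cancel_right] at h3
  have hzg : ∀ u w : X, u * (w * z) * u⁻¹ = u * w * u⁻¹ * z := by
    intro u w
    calc u * (w * z) * u⁻¹ = u * w * (z * u⁻¹) := by group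
      _ = u * w * (u⁻¹ * z) := by rw [zc u⁻¹]
      _ = u * w * u⁻¹ * z := by group
  -- the squares lie in `Q`
  have hsq : ∀ w ∈ W, w ∉ Q → w * b ∉ Q → w * w ∈ Q := by
    intro w hw hw1 hw2
    have hwb := hmv w hw hw1 hw2
    have h1 : w * w * b = b * (w * w) := by
      have : w * w * b * (w * w)⁻¹ = b := by
        calc w * w * b * (w * w)⁻¹ = w * (w * b * w⁻¹) * w⁻¹ := by group
          _ = w * (b * z) * w⁻¹ := by rw [hwb]
          _ = b * z * z := by rw [hzg, hwb]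
          _ = b := by rw [mul_assoc, zz, mul_one]
      exact mul_inv_eq_iff_eq_mul.1 this
    obtain ⟨q₀, hq₀, hr₀⟩ := hcb _ (W.mul_mem hw hw) h1
    rcases hE _ (W.mul_mem hw hw) q₀ hq₀ hr₀ with h2 | h2
    · exact h2
    exfalso
    set q := w * w * b with hq
    have hwq : w * w = q * b := by rw [hq, mul_assoc, bb, mul_one]
    have h3 : w * q * w⁻¹ = q * z := by
      calc w * q * w⁻¹ = w * (w * w) * w⁻¹ * (w * b * w⁻¹) := by rw [hq]; group
        _ = w * w * (b * z) := by rw [hwb]; group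
        _ = q * z := by rw [hwq, mul_assoc, ← mul_assoc b b z, bb, one_mul]
    have hq1 : q ≠ 1 := by
      intro h
      rw [h] at h3
      apply z1
      rw [mul_one, mul_inv_cancel, one_mul] at h3
      exact h3.symm
    have hqz : q ≠ z := by
      intro h
      rw [h, zc w, mul_inv_cancel_right, zz] at h3
      exact z1 h3
    have hqq := s.sq q h2 hq1 hqz
    rcases side_fix s zc zz z1 h2 hq1 hqz (hN w hw) (Or.inr h3) with h4 | ⟨r, hr, hqr, c, hc, hc', h4⟩
    · exact hni w hw hw1 hw2 h4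
    have h5 : w * c * w⁻¹ = c * z := by
      rcases hc' with h | h
      · rw [h, h3]
      · rw [h, hzg, h3]
    have hcc : c * c = z := by
      rcases hc' with h | h
      · rw [h, hqq]
      · rw [h]
        calc q * z * (q * z) = q * (z * q) * z := by group
          _ = q * (q * z) * z := by rw [zc q]
          _ = q * q * (z * z) := by group
          _ = z := by rw [hqq, zz, mul_one]
    -- the square of `w` on `r`
    have h6 : w * w * r * (w * w)⁻¹ = r := by
      calc w * w * r * (w * w)⁻¹ = w * (w * r * w⁻¹) * w⁻¹ := by group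
        _ = w * (r * c) * w⁻¹ := by rw [h4]
        _ = (w * r * w⁻¹) * (w * c * w⁻¹) := by group
        _ = r * (c * c) * z := by rw [h4, h5]; group
        _ = r := by rw [hcc, mul_assoc, zz, mul_one]
    have h7 : w * w * r * (w * w)⁻¹ = r * z := by
      rw [hwq]
      calc q * b * r * (q * b)⁻¹ = q * (b * r) * b⁻¹ * q⁻¹ := by group
        _ = q * r * q⁻¹ := by rw [bQ r hr]; group
        _ = r * z := s.comm_eq hr h2 hqr.symm zc zz
    rw [h6] at h7
    exact z1 (mul_eq_left.1 h7.symm)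
  -- the subgroup `Q ∪ Q y`
  have hsub : ∀ y ∈ W, y ∉ Q → y * b ∉ Q → ∃ C : Subgroup X, C ≤ W ∧ C.relIndex W = 2 ∧
      ∀ w ∈ C, w ∈ Q ∨ w * y⁻¹ ∈ Q := by
    intro y hy hy1 hy2
    have hyy := hsq y hy hy1 hy2
    have hyb := hmv y hy hy1 hy2
    have hN' : ∀ q ∈ Q, y⁻¹ * q * y ∈ Q := by
      intro q hq
      have := hN _ (W.inv_mem hy) q hq
      rwa [inv_inv] at this
    let C : Subgroup X :=
      { carrier := {w | w ∈ Q ∨ w * y⁻¹ ∈ Q}
        one_mem' := Or.inl Q.one_mem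
        mul_mem' := by
          rintro u v (hu | hu) (hv | hv)
          · exact Or.inl (Q.mul_mem hu hv)
          · right
            rw [mul_assoc]
            exact Q.mul_mem hu hv
          · right
            have : u * v * y⁻¹ = u * y⁻¹ * (y * v * y⁻¹) := by group
            rw [this]
            exact Q.mul_mem hu (hN y hy v hv)
          · left
            have : u * v = u * y⁻¹ * (y * (v * y⁻¹) * y⁻¹) * (y * y) := by group
            rw [this]
            exact Q.mul_mem (Q.mul_mem hu (hN y hy _ hv)) hyy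
        inv_mem' := by
          rintro u (hu | hu)
          · exact Or.inl (Q.inv_mem hu)
          · right
            have : u⁻¹ * y⁻¹ = (y⁻¹ * (u * y⁻¹)⁻¹ * y) * (y * y)⁻¹ := by group
            rw [this]
            exact Q.mul_mem (hN' _ (Q.inv_mem hu)) (Q.inv_mem hyy) }
    have hmC : ∀ w, w ∈ C ↔ w ∈ Q ∨ w * y⁻¹ ∈ Q := fun w => Iff.rfl
    have hCW : C ≤ W := by
      intro w hw
      rcases (hmC w).1 hw with h | h
      · exact hQW h
      · have := W.mul_mem (hQW h) hy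
        rwa [inv_mul_cancel_right] at this
    refine ⟨C, hCW, ?_, fun w hw => (hmC w).1 hw⟩
    have hyC : y ∈ C := (hmC y).2 (Or.inr (by rw [mul_inv_cancel]; exact Q.one_mem))
    have hQC : Q ≤ C := fun w hw => (hmC w).2 (Or.inl hw)
    have hbC : b ∉ C := by
      intro h
      rcases (hmC b).1 h with h | h
      · exact hbQ h
      · apply hy2
        have h1 := Q.inv_mem h
        rw [mul_inv_rev, inv_inv, hbi] at h1
        exact h1
    rw [relIndex_eq_two_iff]
    refine ⟨b, bW, fun w hw => ?_⟩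
    -- `w ∈ C` or `w b ∈ C`
    have h1 : w ∈ C ∨ w * b ∈ C := by
      by_cases hw1 : w ∈ Q
      · exact Or.inl (hQC hw1)
      by_cases hw2 : w * b ∈ Q
      · exact Or.inr (hQC hw2)
      have hwb := hmv w hw hw1 hw2
      have h3 : y⁻¹ * b * y = b * z := by
        have h4 : y⁻¹ * (b * z) * y = b := by rw [← hyb]; group
        have h5 : y⁻¹ * (b * z) * y = y⁻¹ * b * y * z := by
          have := hzg y⁻¹ b
          rwa [inv_inv] at this
        rw [h5] at h4
        calc y⁻¹ * b * y = y⁻¹ * b * y * z * z := by rw [mul_assoc (y⁻¹ * b * y) z z, zz, mul_one]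
          _ = b * z := by rw [h4]
      have h2 : w * y⁻¹ * b = b * (w * y⁻¹) := by
        have h4 : w * y⁻¹ * b * (w * y⁻¹)⁻¹ = b := by
          calc w * y⁻¹ * b * (w * y⁻¹)⁻¹ = w * (y⁻¹ * b * y) * w⁻¹ := by group
            _ = w * (b * z) * w⁻¹ := by rw [h3]
            _ = b * z * z := by rw [hzg, hwb]
            _ = b := by rw [mul_assoc, zz, mul_one]
        exact mul_inv_eq_iff_eq_mul.1 h4
      obtain ⟨q₀, hq₀, hr₀⟩ := hcb _ (W.mul_mem hw (W.inv_mem hy)) h2
      rcases hE _ (W.mul_mem hw (W.inv_mem hy)) q₀ hq₀ hr₀ with h4 | h4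
      · exact Or.inl ((hmC w).2 (Or.inr h4))
      · right
        have h4 := C.mul_mem (hQC h4) hyC
        have h5 : w * y⁻¹ * b * y = w * b * z := by
          calc w * y⁻¹ * b * y = w * (y⁻¹ * b * y) := by group
            _ = w * b * z := by rw [h3, mul_assoc]
        have h6 := C.mul_mem h4 (hQC s.zQ)
        rw [h5, mul_assoc (w * b), zz, mul_one] at h6
        exact h6
    rcases h1 with h1 | h1
    · right
      refine ⟨h1, fun h2 => hbC ?_⟩
      have := C.mul_mem (C.inv_mem h1) h2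
      rwa [inv_mul_cancel_left] at this
    · left
      refine ⟨h1, fun h2 => hbC ?_⟩
      have := C.mul_mem (C.inv_mem h2) h1
      rwa [inv_mul_cancel_left] at this
  by_cases hinv : ∃ u ∈ W, u ∉ Q ∧ u * b ∉ Q ∧ u * u = 1
  · obtain ⟨u, hu, hu1, hu2, huu⟩ := hinv
    have hub := hmv u hu hu1 hu2
    have hub' : u * b = b * z * u := by rw [← hub]; group
    have hui : u⁻¹ = u := inv_eq_of_mul_eq_one_right huu
    have hy1 : b * u ∉ Q := by
      intro h
      apply hu2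
      have h1 : u * b = (b * u)⁻¹ := by rw [mul_inv_rev, hbi, hui]
      rw [h1]
      exact Q.inv_mem h
    have hy2 : b * u * b ∉ Q := by
      intro h
      apply hu1
      have h1 : u = b * (b * u * b) * b := by
        calc u = (b * b) * u * (b * b) := by rw [bb]; group
          _ = b * (b * u * b) * b := by group
      rw [h1, bQ _ h, mul_assoc, bb, mul_one]
      exact h
    obtain ⟨C, hC1, hC2, hC3⟩ := hsub (b * u) (W.mul_mem bW hu) hy1 hy2
    refine ⟨C, hC1, hC2, fun w hw hww => ?_⟩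
    rcases hC3 w hw with h | h
    · exact side_inv s z1 h hww
    exfalso
    set p := w * (b * u)⁻¹ with hp
    have hwp : w = p * (b * u) := by rw [hp]; group
    have hm := hN u hu p h
    -- `u p u⁻¹ = p⁻¹ z`
    have h1 : p * (u * p * u⁻¹) * z = 1 := by
      rw [← hww, hwp]
      calc p * (u * p * u⁻¹) * z = p * (b * b) * (u * p * u⁻¹) * z := by rw [bb]; group
        _ = p * b * (b * (u * p * u⁻¹)) * z := by group
        _ = p * b * ((u * p * u⁻¹) * b) * z := by rw [bQ _ hm]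
        _ = p * b * (u * p * u⁻¹) * (b * z) := by group
        _ = p * b * (u * p * u⁻¹) * (u * b * u⁻¹) := by rw [hub]
        _ = p * b * u * p * b * u⁻¹ := by group
        _ = p * (b * u) * (p * (b * u)) := by rw [hui]; group
    have hp1 : p ≠ 1 := by
      intro h2
      rw [h2, mul_one, mul_inv_cancel, one_mul, one_mul] at h1
      exact z1 h1
    have hpz : p ≠ z := by
      intro h2
      rw [h2, zc u, mul_inv_cancel_right, zz, one_mul] at h1
      exact z1 h1
    have hpp := s.sq p h hp1 hpz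
    have h2 : u * p * u⁻¹ = p := by
      have h3 : p * (u * p * u⁻¹) = z := by
        rw [mul_eq_one_iff_eq_inv, hzi] at h1
        exact h1
      rw [← hpp] at h3
      exact mul_left_cancel h3
    rcases side_fix s zc zz z1 h hp1 hpz (hN u hu) (Or.inl h2) with h4 | ⟨r, hr, hqr, c, hc, hc', h4⟩
    · exact hni u hu hu1 hu2 h4
    have h5 : u * c * u⁻¹ = c := by
      rcases hc' with h | h
      · rw [h, h2]
      · rw [h, hzg, h2]
    have hcc : c * c = z := by
      rcases hc' with h | h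
      · rw [h, hpp]
      · rw [h]
        calc p * z * (p * z) = p * (z * p) * z := by group
          _ = p * (p * z) * z := by rw [zc p]
          _ = p * p * (z * z) := by group
          _ = z := by rw [hpp, zz, mul_one]
    have h6 : r * z = r := by
      calc r * z = (r * c) * c := by rw [mul_assoc, hcc]
        _ = (u * r * u⁻¹) * (u * c * u⁻¹) := by rw [h4, h5]
        _ = u * (r * c) * u⁻¹ := by group
        _ = u * (u * r * u⁻¹) * u⁻¹ := by rw [h4]
        _ = (u * u) * r * (u * u)⁻¹ := by group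
        _ = r := by rw [huu]; group
    exact z1 (mul_eq_left.1 h6)
  · push Not at hinv
    obtain ⟨C, hC1, hC2, hC3⟩ := hsub x hx hx1 hx2
    refine ⟨C, hC1, hC2, fun w hw hww => ?_⟩
    rcases hC3 w hw with h | h
    · exact side_inv s z1 h hww
    exfalso
    by_cases hw1 : w ∈ Q
    · apply hx1
      have h1 := Q.mul_mem (Q.inv_mem h) hw1
      rw [mul_inv_rev, inv_inv, inv_mul_cancel_right] at h1
      exact h1
    by_cases hw2 : w * b ∈ Q
    · apply hx2
      have h1 := Q.mul_mem (Q.inv_mem h) hw2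
      have h2 : (w * x⁻¹)⁻¹ * (w * b) = x * b := by group
      rwa [h2] at h1
    exact hinv w (hC1 hw) hw1 hw2 hww

end Cfsg.Agent.OddHalf.D6.QThree.TS

end

-- merged: Cfsg.Agent.OddHalf.D6.QThree.TS.BetaOne
section

/-!
# ODD half, D6, `K = L₄(3)`, `T = S`: (beta1), `Q₁` and `Q₂` in different components (helper445)

`HypT.beta_one`: if `Q₁ ≤ M₁`, `Q₂ ≤ M₂` for different components `M₁`, `M₂` of `X = C_G(z)`, then `z` is the only
involution of `M₁` (text of helper296, bb #16577 (beta1)).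
-/

set_option autoImplicit false

namespace Cfsg.Agent.OddHalf.D6.QThree.TS

open Subgroup Cfsg
open Cfsg.Agent.SignalizersComponents.Components
open Cfsg.Agent.Cit (cj mem_cj conj_mem_cj)
open Cfsg.Agent.OddHalf.D6.QThree.NISide
open Cfsg.Agent.OddHalf.D6.QThree.NIB (Bt)

variable {X : Type*} [Group X] {z t a₁ a₂ : X} {Q₁ Q₂ Q : Subgroup X} {S : Sylow 2 X}

/-- `R = Q₁ Q₂` -/
def BaseT.R (h : BaseT z t a₁ a₂ Q₁ Q₂ Q S) : Subgroup X where
  carrier := {r | ∃ x ∈ Q₁, ∃ y ∈ Q₂, r = x * y}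
  mul_mem' := by
    rintro _ _ ⟨x, hx, y, hy, rfl⟩ ⟨x', hx', y', hy', rfl⟩
    refine ⟨x * x', Q₁.mul_mem hx hx', y * y', Q₂.mul_mem hy hy', ?_⟩
    calc x * y * (x' * y') = x * (y * x') * y' := by group
      _ = x * (x' * y) * y' := by rw [h.comm x' hx' y hy]
      _ = x * x' * (y * y') := by group
  one_mem' := ⟨1, Q₁.one_mem, 1, Q₂.one_mem, (one_mul 1).symm⟩
  inv_mem' := by
    rintro _ ⟨x, hx, y, hy, rfl⟩
    refine ⟨x⁻¹, Q₁.inv_mem hx, y⁻¹, Q₂.inv_mem hy, ?_⟩
    rw [mul_inv_rev, h.comm _ (Q₁.inv_mem hx) _ (Q₂.inv_mem hy)]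

/-- `R ≤ S` -/
theorem BaseT.R_le [Finite X] (h : BaseT z t a₁ a₂ Q₁ Q₂ Q S) : h.R ≤ (S : Subgroup X) := by
  have : Fact (Nat.Prime 2) := ⟨Nat.prime_two⟩
  have hp : IsPGroup 2 h.R := by
    rintro ⟨_, x, hx, y, hy, rfl⟩
    refine ⟨2, Subtype.ext ?_⟩
    show (x * y) ^ 4 = 1
    exact h.R_pow hx hy
  have hn : (S : Subgroup X) ≤ normalizer (h.R : Set X) := by
    intro s hs
    have key : ∀ g, g * t = t * g → ∀ r ∈ h.R, g * r * g⁻¹ ∈ h.R := by
      rintro g hg _ ⟨x, hx, y, hy, rfl⟩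
      obtain ⟨x', hx', y', hy', e⟩ := h.nor g hg x hx y hy
      exact ⟨x', hx', y', hy', e⟩
    have hst : Commute s t := h.St s hs
    rw [mem_normalizer_iff]
    intro r
    constructor
    · exact key s hst.eq r
    · intro hr
      have h1 := key s⁻¹ hst.inv_left.eq _ hr
      have h2 : s⁻¹ * (s * r * s⁻¹) * s⁻¹⁻¹ = r := by group
      rwa [h2] at h1
  have h1 : IsPGroup 2 ((S : Subgroup X) ⊔ h.R : Subgroup X) := IsPGroup.to_sup_of_normal_right' S.2 hp hn
  have h2 := S.3 h1 le_sup_left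
  rw [← h2]
  exact le_sup_right

theorem BaseT.Q₁_le_S [Finite X] (h : BaseT z t a₁ a₂ Q₁ Q₂ Q S) : Q₁ ≤ (S : Subgroup X) :=
  fun x hx => h.R_le ⟨x, hx, 1, Q₂.one_mem, (mul_one x).symm⟩

theorem BaseT.Q₂_le_S [Finite X] (h : BaseT z t a₁ a₂ Q₁ Q₂ Q S) : Q₂ ≤ (S : Subgroup X) :=
  fun x hx => h.R_le ⟨1, Q₁.one_mem, x, hx, (one_mul x).symm⟩

/-- a subgroup not containing `t` meets `Q` trivially -/
theorem BaseT.Q_inf (h : BaseT z t a₁ a₂ Q₁ Q₂ Q S) {M : Subgroup X} (ht : t ∉ M) : ∀ q ∈ Q, q ∈ M → q = 1 := by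
  intro q hq hqM
  by_contra hq1
  obtain ⟨n, hn⟩ := h.Q2 ⟨q, hq⟩
  have hn' : q ^ 2 ^ n = 1 := congrArg Subtype.val hn
  obtain ⟨m, hm⟩ : ∃ m : ℕ, orderOf q = 2 ^ (m + 1) := by
    obtain ⟨k, hk1, hk2⟩ := (Nat.dvd_prime_pow Nat.prime_two).1 (orderOf_dvd_of_pow_eq_one hn')
    rcases k with _ | k
    · exfalso; apply hq1; rw [pow_zero] at hk2; exact orderOf_eq_one_iff.1 hk2
    · exact ⟨k, hk2⟩
  have h3 : q ^ 2 ^ m * q ^ 2 ^ m = 1 := by
    rw [← pow_add, ← two_mul, ← pow_succ', ← hm, pow_orderOf_eq_one]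
  have h4 : q ^ 2 ^ m ≠ 1 := by
    intro e
    have h5 := orderOf_dvd_of_pow_eq_one e
    rw [hm] at h5
    have h6 := (Nat.pow_dvd_pow_iff_le_right (by norm_num : 1 < 2)).1 h5
    omega
  rcases h.Q1 _ (Q.pow_mem hq _) h3 with h5 | h5
  · exact h4 h5
  · apply ht; rw [← h5]; exact pow_mem hqM _

/-- **(beta1)**, without the element swapping the components -/
theorem HypT.beta_one' [Finite X] (h : HypT z t a₁ a₂ Q₁ Q₂ Q S) {M₁ M₂ : Subgroup X} (hM₁ : IsComponent M₁)
    (hM₂ : IsComponent M₂) (hne : M₁ ≠ M₂) (hQ₁ : Q₁ ≤ M₁) (hQ₂ : Q₂ ≤ M₂) : NI.Hyp.CA z := by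
  have : Fact (Nat.Prime 2) := ⟨Nat.prime_two⟩
  have hcomm : ∀ x ∈ M₁, ∀ y ∈ M₂, x * y = y * x := fun x hx y hy =>
    Cfsg.Agent.Cit.Comp.comm_of_ne hM₁ hM₂ hne hx hy
  have ht : t ∉ M₁ := fun ht => h.not_le hM₂.2 fun x hx => (hcomm t ht x hx).symm
  have hzM : z ∈ M₁ := hQ₁ h.s₁.zQ
  obtain ⟨P, hPe⟩ := Cfsg.Agent.S0542.result 2 M₁ hM₁.1 S
  set W : Subgroup X := (S : Subgroup X) ⊓ M₁ with hW
  have hWp : IsPGroup 2 W := S.2.to_le inf_le_left
  have hQW : Q₁ ≤ W := le_inf h.Q₁_le_S hQ₁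
  have hW2 : ∀ w ∈ W, ∀ y ∈ Q₂, w * y = y * w := fun w hw y hy => hcomm w hw.2 y (hQ₂ hy)
  have hN : ∀ w ∈ W, ∀ q ∈ Q₁, w * q * w⁻¹ ∈ Q₁ := by
    intro w hw q hq
    obtain ⟨x', hx', y', hy', e⟩ := h.nor w (h.St w hw.1) q hq 1 Q₂.one_mem
    rw [mul_one] at e
    have h1 : y' ∈ M₁ := by
      have h2 : y' = x'⁻¹ * (w * q * w⁻¹) := by rw [e, inv_mul_cancel_left]
      rw [h2]
      exact M₁.mul_mem (M₁.inv_mem (hQ₁ hx')) (M₁.mul_mem (M₁.mul_mem hw.2 (hQ₁ hq)) (M₁.inv_mem hw.2))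
    have h2 : y' = 1 ∨ y' = z := h.s₂.center hy' fun y hy => hcomm y' h1 y (hQ₂ hy)
    rw [e]
    refine Q₁.mul_mem hx' ?_
    rcases h2 with h2 | h2 <;> rw [h2]
    · exact Q₁.one_mem
    · exact h.s₁.zQ
  have hB : ∀ w ∈ W, (∀ q ∈ Q₁, w * q = q * w) → Bt t Q₁ Q₂ w := fun w hw hq =>
    ⟨h.St w hw.1, hq, hW2 w hw⟩
  have hQZ : ∀ w ∈ W, QZ Q z w → w = 1 ∨ w = z := by
    intro w hw hq
    rcases hq with hq | hq
    · exact Or.inl (h.Q_inf ht w hq hw.2)
    · right
      have h1 := h.Q_inf ht _ hq (M₁.mul_mem hw.2 hzM)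
      rw [mul_eq_one_iff_eq_inv, h.zinv] at h1
      exact h1
  have hex : ∃ C : Subgroup X, C ≤ W ∧ C.relIndex W = 2 ∧ ∀ x ∈ C, x * x = 1 → x = 1 ∨ x = z := by
    by_cases hb : ∃ b ∈ W, (∀ q ∈ Q₁, b * q = q * b) ∧ b ≠ 1 ∧ b ≠ z
    · obtain ⟨b, bW, bq, b1, bz⟩ := hb
      have hBb := hB b bW bq
      have hnb : ¬ QZ Q z b := fun e => (hQZ b bW e).elim b1 bz
      have bb : b * b = 1 := h.Q_inf ht _ (h.Bsq b hBb) (M₁.mul_mem bW.2 bW.2)
      refine exists_index_two_b h.s₁ h.zc h.zz h.z1 hWp hQW hN bb bW b1 bz ?_ ?_ bq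
      · intro w hw hwq
        rcases h.Bu b w hBb (hB w hw hwq) with e | e | e
        · exact absurd e hnb
        · rcases hQZ w hw e with e | e
          · exact Or.inl e
          · exact Or.inr (Or.inl e)
        · rcases hQZ _ (W.mul_mem (W.inv_mem bW) hw) e with e | e
          · right; right; left
            rw [inv_mul_eq_one] at e; exact e.symm
          · right; right; right
            rw [inv_mul_eq_iff_eq_mul] at e; exact e
      · intro w hw hwb
        obtain ⟨q, hq, hqB⟩ := h.mv w hw.1 (hW2 w hw) b hBb hnb hwb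
        exact ⟨q, hq, hqB.2.1⟩
    · push Not at hb
      refine exists_index_two h.s₁ h.zc h.zz h.z1 hWp hQW fun w hw hwq => ?_
      by_cases hw1 : w = 1
      · exact Or.inl hw1
      · exact Or.inr (hb w hw hwq hw1)
  obtain ⟨C, hCW, hCi, hCu⟩ := hex
  refine ⟨M₁, hM₁, hzM, ?_⟩
  intro u hu huu
  have hPW : (P : Subgroup M₁) = W.subgroupOf M₁ := by rw [hPe, hW, inf_subgroupOf_right]
  obtain ⟨g, hg⟩ := CaseM.exists_conj_of_perfect hM₁.2.1 P (C.subgroupOf M₁)
    (by rw [hPW]; exact comap_mono hCW)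
    (by rw [hPW, relIndex_subgroupOf inf_le_right, hCi]) ⟨u, hu⟩ (Subtype.ext huu)
  have hg' : (g : X) * u * (g : X)⁻¹ ∈ C := hg
  rcases hCu _ hg' (by
      calc (g : X) * u * (g : X)⁻¹ * ((g : X) * u * (g : X)⁻¹) = g * (u * u) * (g : X)⁻¹ := by group
        _ = 1 := by rw [huu, mul_one, mul_inv_cancel]) with e | e
  · exact Or.inl (conj_eq_one_iff.1 e)
  · right
    have : u = (g : X)⁻¹ * (g * u * (g : X)⁻¹) * g := by group
    rw [this, e, h.zc (g : X)⁻¹, inv_mul_cancel_right]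

/-- **(beta1)** -/
theorem HypT.beta_one [Finite X] (h : HypT z t a₁ a₂ Q₁ Q₂ Q S) {M₁ M₂ : Subgroup X} (hM₁ : IsComponent M₁)
    (hM₂ : IsComponent M₂) (hne : M₁ ≠ M₂) (hQ₁ : Q₁ ≤ M₁) (hQ₂ : Q₂ ≤ M₂)
    (_sw : ∃ p, p * t = t * p ∧ cj p M₁ = M₂) : NI.Hyp.CA z :=
  h.beta_one' hM₁ hM₂ hne hQ₁ hQ₂

end Cfsg.Agent.OddHalf.D6.QThree.TS

end

-- merged: Cfsg.Agent.OddHalf.D6.QThree.TS.BetaTwo
section

/-!
# ODD half, D6, `K = L₄(3)`, `T = S`: the only component contains `Q₁` and `Q₂` (helper931)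

`eq_of_two_elements`: a normal subgroup of `X` whose 2-elements are `1` and the central involution `z` is in
`{1, z}` when `O(X) = 1`. `HypT.beta_two`: the only component `M` of `X` with `Q₁, Q₂ ≤ M` is normal and has
centralizer `⟨z⟩` (text of helper296, bb #16577 (beta2)).
-/

set_option autoImplicit false

namespace Cfsg.Agent.OddHalf.D6.QThree.TS

open Subgroup Cfsg
open scoped Pointwise
open Cfsg.Agent.SignalizersComponents.Components
open Cfsg.Agent.Cit (cj mem_cj conj_mem_cj)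
open Cfsg.Agent.OddHalf.D6.QThree.NISide
open Cfsg.Agent.OddHalf.D6.QThree.NIB (Bt)

section

variable {X : Type*} [Group X]

/-- a normal subgroup with `1` and `z` as its only 2-elements, `O(X) = 1` -/
theorem eq_of_two_elements [Finite X] {z : X} (zc : ∀ x : X, x * z = z * x) (hO : pPrimeCore 2 X = ⊥)
    {C : Subgroup X} (hC : C.Normal) (h2 : ∀ y ∈ C, (∃ n : ℕ, y ^ 2 ^ n = 1) → y = 1 ∨ y = z) :
    ∀ y ∈ C, y = 1 ∨ y = z := by
  have : Fact (Nat.Prime 2) := ⟨Nat.prime_two⟩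
  obtain ⟨P⟩ : Nonempty (Sylow 2 C) := inferInstance
  have hPz : ∀ p : C, p ∈ P → (p : X) = 1 ∨ (p : X) = z := by
    intro p hp
    obtain ⟨n, hn⟩ := P.isPGroup' ⟨p, hp⟩
    exact h2 p p.2 ⟨n, congrArg (fun u : P => ((u : C) : X)) hn⟩
  have hcom : ∀ p : C, p ∈ P → ∀ x : C, x * p = p * x := by
    intro p hp x
    apply Subtype.ext
    rcases hPz p hp with e | e
    · rw [coe_mul, coe_mul, e, mul_one, one_mul]
    · rw [coe_mul, coe_mul, e, zc]
  have hP : normalizer ((P : Subgroup C) : Set C) ≤ centralizer ((P : Subgroup C) : Set C) := by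
    intro x _
    rw [mem_centralizer_iff]
    intro p hp
    exact (hcom p hp x).symm
  have h3 := MonoidHom.not_dvd_card_ker_transferSylow P hP
  set K := (MonoidHom.transferSylow P hP).ker with hK
  have h4 : (K.map C.subtype).IsSubnormal := (inferInstance : K.Normal).isSubnormal.trans' hC.isSubnormal
  have h5 : K.map C.subtype ≤ pPrimeCore 2 X := by
    apply Cfsg.Agent.SignalizersComponents.CompBasic.subnormal_coprime_le_pPrimeCore h4
    rw [card_map_of_injective C.subtype_injective]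
    exact ((Nat.Prime.coprime_iff_not_dvd Nat.prime_two).2 h3).symm
  rw [hO, le_bot_iff, map_eq_bot_iff_of_injective _ C.subtype_injective] at h5
  have h6 : (P : Subgroup C) = ⊤ := by
    have h7 := MonoidHom.ker_transferSylow_isComplement' P hP
    rw [← hK, h5] at h7
    exact isComplement'_bot_left.1 h7
  intro y hy
  exact hPz ⟨y, hy⟩ (show (⟨y, hy⟩ : C) ∈ (P : Subgroup C) by rw [h6]; exact mem_top _)

end

namespace HypT

variable {X : Type*} [Group X] {z t a₁ a₂ : X} {Q₁ Q₂ Q : Subgroup X} {S : Sylow 2 X}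

/-- **(beta2)** -/
theorem beta_two [Finite X] (h : HypT z t a₁ a₂ Q₁ Q₂ Q S) {M : Subgroup X} (hM : IsComponent M)
    (h1 : Q₁ ≤ M) (h2 : Q₂ ≤ M) (only : ∀ M' : Subgroup X, IsComponent M' → M' = M) :
    M.Normal ∧ ∀ y ∈ centralizer (M : Set X), y = 1 ∨ y = z := by
  have : Fact (Nat.Prime 2) := ⟨Nat.prime_two⟩
  have hMn : M.Normal := by
    refine ⟨fun x hx g => ?_⟩
    have h3 := only _ (Cfsg.Agent.Cit.Comp.isComponent_cj hM g)
    rw [← h3]; exact conj_mem_cj hx
  refine ⟨hMn, ?_⟩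
  have hCn : (centralizer (M : Set X)).Normal := inferInstance
  -- `t` does not centralise `M`
  have htC : t ∉ centralizer (M : Set X) := by
    intro ht
    exact h.not_le hM.2 fun x hx => mem_centralizer_iff.1 ht x hx
  -- a 2-element of `Q` centralising `M` is trivial
  have hQC : ∀ q ∈ Q, q ∈ centralizer (M : Set X) → q = 1 := by
    intro q hq hqC
    by_contra hq1
    obtain ⟨n, hn⟩ := h.Q2 ⟨q, hq⟩
    have hn' : q ^ 2 ^ n = 1 := congrArg Subtype.val hn
    obtain ⟨m, hm⟩ : ∃ m : ℕ, orderOf q = 2 ^ (m + 1) := by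
      obtain ⟨k, hk1, hk2⟩ := (Nat.dvd_prime_pow Nat.prime_two).1 (orderOf_dvd_of_pow_eq_one hn')
      rcases k with _ | k
      · exfalso; apply hq1; rw [pow_zero] at hk2; exact orderOf_eq_one_iff.1 hk2
      · exact ⟨k, hk2⟩
    have h3 : q ^ 2 ^ m * q ^ 2 ^ m = 1 := by
      rw [← pow_add, ← two_mul, ← pow_succ', ← hm, pow_orderOf_eq_one]
    have h4 : q ^ 2 ^ m ≠ 1 := by
      intro e
      have h5 := orderOf_dvd_of_pow_eq_one e
      rw [hm] at h5
      have h6 := (Nat.pow_dvd_pow_iff_le_right (by norm_num : 1 < 2)).1 h5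
      omega
    rcases h.Q1 _ (Q.pow_mem hq _) h3 with h5 | h5
    · exact h4 h5
    · apply htC; rw [← h5]; exact pow_mem hqC _
  -- the 2-elements of `S ∩ C(M)`
  have hS : ∀ s ∈ S, s ∈ centralizer (M : Set X) → s = 1 ∨ s = z := by
    intro s hs hsC
    have hcm : ∀ m ∈ M, s * m = m * s := fun m hm => (mem_centralizer_iff.1 hsC m hm).symm
    have hB : Bt t Q₁ Q₂ s := ⟨h.St s hs, fun q hq => hcm q (h1 hq), fun q hq => hcm q (h2 hq)⟩
    have hss : s * s = 1 := hQC _ (h.Bsq s hB) (mul_mem hsC hsC)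
    by_cases hqz : QZ Q z s
    · rcases hqz with h3 | h3
      · exact Or.inl (hQC s h3 hsC)
      · right
        have hzC : z ∈ centralizer (M : Set X) := mem_centralizer_iff.2 fun m _ => h.zc m
        have h4 := hQC _ h3 (mul_mem hsC hzC)
        rw [mul_eq_one_iff_eq_inv, h.zinv] at h4
        exact h4
    · exact (h.refl s hB hss hqz M hM h1 h2 hcm).elim
  apply eq_of_two_elements h.zc h.O hCn
  rintro y hy ⟨n, hn⟩
  have hyp : IsPGroup 2 (zpowers y) := by
    rw [IsPGroup.iff_card]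
    obtain ⟨k, -, hk⟩ := (Nat.dvd_prime_pow Nat.prime_two).1 (orderOf_dvd_of_pow_eq_one hn)
    exact ⟨k, by rw [Nat.card_zpowers, hk]⟩
  obtain ⟨P, hP⟩ := hyp.exists_le_sylow
  obtain ⟨g, hg⟩ := MulAction.exists_smul_eq X S P
  have hyP : y ∈ g • S := by rw [hg]; exact hP (mem_zpowers y)
  have h3 : g⁻¹ * y * g ∈ S := by
    have h4 : y ∈ MulAut.conj g • (S : Subgroup X) := hyP
    rw [mem_pointwise_smul_iff_inv_smul_mem] at h4
    have h5 : g⁻¹ * y * g ∈ (S : Subgroup X) := by simpa [MulAut.smul_def] using h4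
    exact h5
  have h4 : g⁻¹ * y * g ∈ centralizer (M : Set X) := by
    have := hCn.conj_mem y hy g⁻¹
    rwa [inv_inv] at this
  have h5 : y = g * (g⁻¹ * y * g) * g⁻¹ := by group
  rcases hS _ h3 h4 with h6 | h6
  · left; rw [h5, h6]; group
  · right; rw [h5, h6, h.zc g]; group

end HypT

end Cfsg.Agent.OddHalf.D6.QThree.TS

end

-- merged: Cfsg.Agent.OddHalf.D6.QThree.TS.OddNormal
section

/-!
# ODD half, D6, `K = L₄(3)`, `T = S`: the elements of odd order of `C_X(t)` centralise `E(X)` (helper931)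

`BaseT.bt_of_abelian`: an abelian normal 2-subgroup of `X` lies in `B`. `BaseT.oddC_normal`: if the elements of odd
order of `C_X(t)` centralise the components of `X`, then they generate a normal subgroup of `X` (text of helper296
bb #16577 (E = 1) and helper518 bb #16999 (3)).
-/

set_option autoImplicit false

namespace Cfsg.Agent.OddHalf.D6.QThree.TS

open Subgroup Cfsg
open Cfsg.Agent.OddHalf.D6.QThree.NISide
open Cfsg.Agent.OddHalf.D6.QThree.NIB (Bt)

namespace BaseT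

variable {X : Type*} [Group X] {z t a₁ a₂ : X} {Q₁ Q₂ Q : Subgroup X} {S : Sylow 2 X}

/-- an abelian normal 2-subgroup centralised by `t` lies in `B` -/
theorem bt_of_abelian (h : BaseT z t a₁ a₂ Q₁ Q₂ Q S) {W : Subgroup X} (hn : ∀ g, g * t = t * g → ∀ w ∈ W, g * w * g⁻¹ ∈ W)
    (hp : IsPGroup 2 W) (hc : ∀ x ∈ W, ∀ y ∈ W, x * y = y * x) (ht : ∀ w ∈ W, w * t = t * w) :
    ∀ w ∈ W, Bt t Q₁ Q₂ w := by
  intro w hw
  obtain ⟨x, hx, y, hy, b, hb, e⟩ := h.rad W ht hp hn w hw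
  have hbz : Bt t Q₁ Q₂ z := ⟨(h.zc t).symm, fun q _ => (h.zc q).symm, fun q _ => (h.zc q).symm⟩
  have hone : ∀ u, (u = 1 ∨ u = z) → Bt t Q₁ Q₂ u := by
    rintro u (rfl | rfl)
    · exact Bt.one
    · exact hbz
  have hx' : x = 1 ∨ x = z := by
    by_contra hx0
    push Not at hx0
    apply h.s₁.act x hx hx0.1 hx0.2
    have h1 := hn a₁ h.s₁.a_t w hw
    have h2 := hc w hw _ h1
    have hab : a₁ * b = b * a₁ := (h.odd b hb a₁ h.s₁.a_t h.oa₁).symm
    have hay : a₁ * y = y * a₁ := h.s₁.aD y hy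
    have e1 : a₁ * w * a₁⁻¹ = (a₁ * x * a₁⁻¹) * (y * b) := by
      rw [e]
      calc a₁ * (x * y * b) * a₁⁻¹ = a₁ * x * a₁⁻¹ * (a₁ * y) * b * a₁⁻¹ := by group
        _ = a₁ * x * a₁⁻¹ * y * (a₁ * b) * a₁⁻¹ := by rw [hay]; group
        _ = a₁ * x * a₁⁻¹ * (y * b) := by rw [hab]; group
    set x' := a₁ * x * a₁⁻¹ with hx'd
    have hx'Q : x' ∈ Q₁ := h.s₁.aQ x hx
    have hu : ∀ q ∈ Q₁, (y * b) * q = q * (y * b) := by
      intro q hq
      rw [mul_assoc, hb.2.1 q hq, ← mul_assoc, ← h.comm q hq y hy, mul_assoc]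
    rw [e1, e] at h2
    have h3 : x * y * b * (x' * (y * b)) = x * x' * ((y * b) * (y * b)) := by
      calc x * y * b * (x' * (y * b)) = x * ((y * b) * x') * (y * b) := by group
        _ = x * x' * ((y * b) * (y * b)) := by rw [hu x' hx'Q]; group
    have h4 : x' * (y * b) * (x * y * b) = x' * x * ((y * b) * (y * b)) := by
      calc x' * (y * b) * (x * y * b) = x' * ((y * b) * x) * (y * b) := by group
        _ = x' * x * ((y * b) * (y * b)) := by rw [hu x hx]; group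
    rw [h3, h4] at h2
    exact mul_right_cancel h2
  have hy' : y = 1 ∨ y = z := by
    by_contra hy0
    push Not at hy0
    apply h.s₂.act y hy hy0.1 hy0.2
    have h1 := hn a₂ h.s₂.a_t w hw
    have h2 := hc w hw _ h1
    have hab : a₂ * b = b * a₂ := (h.odd b hb a₂ h.s₂.a_t h.oa₂).symm
    have hax : a₂ * x = x * a₂ := h.s₂.aD x hx
    have ew : w = y * (x * b) := by rw [e, h.comm x hx y hy]; group
    have e1 : a₂ * w * a₂⁻¹ = (a₂ * y * a₂⁻¹) * (x * b) := by
      rw [ew]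
      calc a₂ * (y * (x * b)) * a₂⁻¹ = a₂ * y * a₂⁻¹ * (a₂ * x) * b * a₂⁻¹ := by group
        _ = a₂ * y * a₂⁻¹ * x * (a₂ * b) * a₂⁻¹ := by rw [hax]; group
        _ = a₂ * y * a₂⁻¹ * (x * b) := by rw [hab]; group
    set y' := a₂ * y * a₂⁻¹ with hy'd
    have hy'Q : y' ∈ Q₂ := h.s₂.aQ y hy
    have hu : ∀ q ∈ Q₂, (x * b) * q = q * (x * b) := by
      intro q hq
      rw [mul_assoc, hb.2.2 q hq, ← mul_assoc, h.comm x hx q hq, mul_assoc]
    rw [e1, ew] at h2
    have h3 : y * (x * b) * (y' * (x * b)) = y * y' * ((x * b) * (x * b)) := by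
      calc y * (x * b) * (y' * (x * b)) = y * ((x * b) * y') * (x * b) := by group
        _ = y * y' * ((x * b) * (x * b)) := by rw [hu y' hy'Q]; group
    have h4 : y' * (x * b) * (y * (x * b)) = y' * y * ((x * b) * (x * b)) := by
      calc y' * (x * b) * (y * (x * b)) = y' * ((x * b) * y) * (x * b) := by group
        _ = y' * y * ((x * b) * (x * b)) := by rw [hu y hy]; group
    rw [h3, h4] at h2
    exact mul_right_cancel h2
  rw [e]
  exact ((hone x hx').mul (hone y hy')).mul hb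

/-- **if the elements of odd order of `C_X(t)` centralise `E(X)`, then they generate a normal subgroup** -/
theorem oddC_normal [Finite X] (h : BaseT z t a₁ a₂ Q₁ Q₂ Q S)
    (hc : ∀ M : Subgroup X, IsComponent M → ∀ d, d * t = t * d → Odd (orderOf d) → ∀ m ∈ M, d * m = m * d) :
    (oddC t).Normal := by
  have : Fact (Nat.Prime 2) := ⟨Nat.prime_two⟩
  set F := fittingSubgroup X with hFd
  have hFe : F = pCore 2 X :=
    Cfsg.Agent.SignalizersComponents.PConstrained.fittingSubgroup_eq_pCore_of_pPrimeCore_eq_bot 2 h.O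
  have hF2 : IsPGroup 2 F := by
    rw [hFe]; exact Cfsg.Agent.Lib.Cores.pCore_isPGroup 2
  have hFn : F.Normal := by
    rw [hFe]; infer_instance
  have hFS : F ≤ S := hF2.le_sylow_of_normal S
  have hFt : ∀ f ∈ F, f * t = t * f := fun f hf => h.St f (hFS hf)
  set Z : Subgroup X := F ⊓ centralizer (F : Set X) with hZd
  have hZn : Z.Normal := inferInstance
  have hZB : ∀ w ∈ Z, Bt t Q₁ Q₂ w := by
    apply h.bt_of_abelian (fun g _ w hw => hZn.conj_mem w hw g) (hF2.to_le inf_le_left)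
    · intro x hx y hy
      exact (mem_centralizer_iff.1 hy.2 x hx.1)
    · exact fun w hw => hFt w hw.1
  set A : Subgroup X := centralizer (layer X : Set X) ⊓ centralizer (Z : Set X) with hAd
  have hLn : (layer X).Normal := Cfsg.Agent.SignalizersComponents.Components.layer_normal X
  have hAn : A.Normal := inferInstance
  -- the elements of odd order of `A`
  have hA : ∀ x ∈ A, Odd (orderOf x) → x * t = t * x := by
    intro x hx ho
    set c := t * x * t⁻¹ * x⁻¹ with hcd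
    have hcE : c ∈ centralizer (layer X : Set X) := by
      rw [hcd]
      have hn : (centralizer (layer X : Set X)).Normal := inferInstance
      exact mul_mem (hn.conj_mem x hx.1 t) (inv_mem hx.1)
    have hcF : c ∈ centralizer (F : Set X) := by
      rw [mem_centralizer_iff]
      intro f hf
      have h1 : x⁻¹ * f * x ∈ F := by
        have := hFn.conj_mem f hf x⁻¹
        rwa [inv_inv] at this
      have h2 : (x⁻¹ * f * x) * t⁻¹ = t⁻¹ * (x⁻¹ * f * x) := by
        have h2 := hFt _ h1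
        calc (x⁻¹ * f * x) * t⁻¹ = t⁻¹ * (t * (x⁻¹ * f * x)) * t⁻¹ := by group
          _ = t⁻¹ * (x⁻¹ * f * x) := by rw [← h2]; group
      have h3 := hFt f hf
      calc f * c = (f * t) * x * t⁻¹ * x⁻¹ := by rw [hcd]; group
        _ = t * x * ((x⁻¹ * f * x) * t⁻¹) * x⁻¹ := by rw [h3]; group
        _ = t * x * t⁻¹ * x⁻¹ * f := by rw [h2]; group
        _ = c * f := by rw [hcd]
    have hcFF : c ∈ F := by
      apply Cfsg.Agent.TwoFusion.FStarControl.centralizer_genFitting_le_fitting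
      rw [generalizedFittingSubgroup, mem_centralizer_iff]
      intro y hy
      have h1 : layer X ⊔ fittingSubgroup X ≤ centralizer ({c} : Set X) := by
        rw [sup_le_iff]
        constructor
        · intro y hy
          rw [mem_centralizer_singleton_iff]
          exact (mem_centralizer_iff.1 hcE y hy)
        · intro y hy
          rw [mem_centralizer_singleton_iff]
          exact (mem_centralizer_iff.1 hcF y hy)
      exact mem_centralizer_singleton_iff.1 (h1 hy)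
    have hcZ : c ∈ Z := ⟨hcFF, hcF⟩
    have hxc : x * c = c * x := (mem_centralizer_iff.1 hx.2 c hcZ).symm
    have h1 : t * x * t⁻¹ = c * x := by rw [hcd]; group
    have h2 : (t * x * t⁻¹) ^ orderOf x = 1 := by
      rw [conj_pow, pow_orderOf_eq_one]; group
    have h3 : c ^ orderOf x = 1 := by
      have hcm : Commute c x := hxc.symm
      rw [h1, hcm.mul_pow, pow_orderOf_eq_one, mul_one] at h2
      exact h2
    obtain ⟨k, hk⟩ := hF2 ⟨c, hcFF⟩
    have hk' : c ^ 2 ^ k = 1 := congrArg Subtype.val hk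
    have h4 : c = 1 := by
      have h5 : orderOf c ∣ orderOf x := orderOf_dvd_of_pow_eq_one h3
      have h6 : orderOf c ∣ 2 ^ k := orderOf_dvd_of_pow_eq_one hk'
      have h7 : Nat.Coprime (orderOf x) (2 ^ k) := Nat.Coprime.pow_right k ho.coprime_two_right
      have h8 : orderOf c = 1 := Nat.eq_one_of_dvd_coprimes h7 h5 h6
      exact orderOf_eq_one_iff.1 h8
    rw [h4, one_mul] at h1
    calc x * t = (t * x * t⁻¹) * t := by rw [h1]
      _ = t * x := by group
  have hset : ∀ d, d * t = t * d → Odd (orderOf d) → d ∈ A := by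
    intro d hd ho
    refine mem_inf.2 ⟨?_, ?_⟩
    · have h1 : layer X ≤ centralizer ({d} : Set X) := by
        rw [Cfsg.Agent.SignalizersComponents.Components.layer_le_iff]
        intro K hK k hk
        rw [mem_centralizer_singleton_iff]
        exact (hc K hK d hd ho k hk).symm
      rw [mem_centralizer_iff]
      intro y hy
      exact mem_centralizer_singleton_iff.1 (h1 hy)
    · rw [mem_centralizer_iff]
      intro w hw
      exact h.odd w (hZB w hw) d hd ho
  refine ⟨fun x hx g => ?_⟩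
  unfold oddC at hx ⊢
  refine closure_induction (p := fun x _ => g * x * g⁻¹ ∈ closure {d : X | d * t = t * d ∧ Odd (orderOf d)})
    ?_ ?_ ?_ ?_ hx
  · rintro d ⟨hd, ho⟩
    have h1 : g * d * g⁻¹ ∈ A := hAn.conj_mem d (hset d hd ho) g
    have h2 : orderOf (g * d * g⁻¹) = orderOf d := by
      have := orderOf_injective (MulAut.conj g).toMonoidHom (MulAut.conj g).injective d
      simpa using this
    have h3 : Odd (orderOf (g * d * g⁻¹)) := by rw [h2]; exact ho
    exact subset_closure ⟨hA _ h1 h3, h3⟩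
  · rw [mul_one, mul_inv_cancel]; exact one_mem _
  · intro x y _ _ hx hy
    have : g * (x * y) * g⁻¹ = g * x * g⁻¹ * (g * y * g⁻¹) := by group
    rw [this]; exact mul_mem hx hy
  · intro x _ hx
    have : g * x⁻¹ * g⁻¹ = (g * x * g⁻¹)⁻¹ := by group
    rw [this]; exact inv_mem hx

end BaseT

end Cfsg.Agent.OddHalf.D6.QThree.TS

end

-- merged: Cfsg.Agent.OddHalf.D6.QThree.TS.Main
section

/-!
# ODD half, D6, `K = L₄(3)`, `T = S` (text of helper296, bb #16577): the conclusion for `X = C_G(z)`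
-/

set_option autoImplicit false

namespace Cfsg.Agent.OddHalf.D6.QThree.TS

open Subgroup Cfsg
open Cfsg.Agent.SignalizersComponents.Components
open Cfsg.Agent.Cit (cj mem_cj conj_mem_cj)
open Cfsg.Agent.OddHalf.D6.QThree.NISide
open Cfsg.Agent.OddHalf.D6.QThree.NIB (Bt)

variable {X : Type*} [Group X] {z t a₁ a₂ : X} {Q₁ Q₂ Q : Subgroup X} {S : Sylow 2 X}

/-- the swap is onto -/
theorem onto_of_swap [Finite X] {A B : Subgroup X} {p : X} (h1 : ∀ x ∈ A, p * x * p⁻¹ ∈ B)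
    (h2 : ∀ x ∈ B, p * x * p⁻¹ ∈ A) {y : X} (hy : y ∈ B) : ∃ x ∈ A, p * x * p⁻¹ = y := by
  have e1 : A.map (MulAut.conj p).toMonoidHom ≤ B := by
    rintro _ ⟨x, hx, rfl⟩; exact h1 x hx
  have e2 : B.map (MulAut.conj p).toMonoidHom ≤ A := by
    rintro _ ⟨x, hx, rfl⟩; exact h2 x hx
  have c1 : Nat.card (A.map (MulAut.conj p).toMonoidHom) = Nat.card A :=
    card_map_of_injective (MulAut.conj p).injective
  have c2 : Nat.card (B.map (MulAut.conj p).toMonoidHom) = Nat.card B :=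
    card_map_of_injective (MulAut.conj p).injective
  have d1 := Subgroup.card_le_of_le e1
  have d2 := Subgroup.card_le_of_le e2
  have e3 : A.map (MulAut.conj p).toMonoidHom = B := Subgroup.eq_of_le_of_card_ge e1 (by omega)
  rw [← e3] at hy
  obtain ⟨x, hx, rfl⟩ := hy
  exact ⟨x, hx, rfl⟩

/-- `Q₁` lies in at most one component -/
theorem BaseT.uniq₁ [Finite X] (h : BaseT z t a₁ a₂ Q₁ Q₂ Q S) {M M' : Subgroup X} (hM : IsComponent M)
    (hM' : IsComponent M') (h1 : Q₁ ≤ M) (h2 : Q₁ ≤ M') : M' = M := by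
  by_contra hne
  obtain ⟨q, hq, hq1, hqz⟩ := h.s₁.exists_ne
  exact h.s₁.act q hq hq1 hqz
    (Cfsg.Agent.Cit.Comp.comm_of_ne hM hM' (fun e => hne e.symm) (h1 hq) (h2 (h.s₁.aQ q hq)))

/-- **the conclusion** -/
theorem HypT.main [Finite X] (h : HypT z t a₁ a₂ Q₁ Q₂ Q S) :
    NI.Hyp.CA z ∨ (oddC t).Normal ∨
      ∃ M : Subgroup X, IsComponent M ∧ M.Normal ∧ Q₁ ≤ M ∧ Q₂ ≤ M ∧
        ∀ y ∈ centralizer (M : Set X), y = 1 ∨ y = z := by
  by_cases hA : ∃ M : Subgroup X, IsComponent M ∧ (Q₁ ≤ M ∨ Q₂ ≤ M)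
  · obtain ⟨M, hM, hMQ⟩ := hA
    obtain ⟨p, -, hp1, hp2⟩ := h.swap
    have hMp : IsComponent (cj p M) := Cfsg.Agent.Cit.Comp.isComponent_cj hM p
    by_cases h1 : Q₁ ≤ M
    · by_cases h2 : Q₂ ≤ M
      · right; right
        have only : ∀ M' : Subgroup X, IsComponent M' → M' = M := by
          intro M' hM'
          by_cases h3 : Q₁ ≤ M'
          · exact h.uniq₁ hM hM' h1 h3
          · by_cases h4 : Q₂ ≤ M'
            · exact h.symm.uniq₁ hM hM' h2 h4
            · exact ((h.alpha_end hM' h3 h4).2 M hM).symm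
        obtain ⟨e1, e2⟩ := h.beta_two hM h1 h2 only
        exact ⟨M, hM, e1, h1, h2, e2⟩
      · left
        have h3 : Q₂ ≤ cj p M := by
          intro y hy
          obtain ⟨x, hx, rfl⟩ := onto_of_swap hp1 hp2 hy
          exact conj_mem_cj (h1 hx)
        exact h.beta_one' hM hMp (fun e => h2 (e ▸ h3)) h1 h3
    · left
      have h2 : Q₂ ≤ M := hMQ.resolve_left h1
      have h3 : Q₁ ≤ cj p M := by
        intro y hy
        obtain ⟨x, hx, rfl⟩ := onto_of_swap hp2 hp1 hy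
        exact conj_mem_cj (h2 hx)
      exact h.beta_one' hMp hM (fun e => h1 (e ▸ h3)) h3 h2
  · push Not at hA
    right; left
    apply h.oddC_normal
    intro M hM d hdt hdo m hm
    exact (h.alpha_end hM (hA M hM).1 (hA M hM).2).1 d (subset_closure ⟨hdt, hdo⟩) m hm

end Cfsg.Agent.OddHalf.D6.QThree.TS

end
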